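import Groth.Agent.InjFibre.SliceAlg
import Groth.Agent.Purity.DepthPair
import Groth.Agent.Purity.Punct
import Groth.Agent.GeomProp.SmoothLocal
import Groth.Agent.CMFlat.Scheme

/-!
# Regular pairs on fibres of smooth algebras
-/

set_option autoImplicit false
set_option backward.isDefEq.respectTransparency false
set_option linter.style.haveILetI false

universe u

open TensorProduct RingTheory.Sequence
open Groth.Agent.Purity (TwoWith)

namespace Groth.Agent.PurFib

section basic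

variable {S T : Type u} [CommRing S] [CommRing T]

theorem two_iff_isWeaklyRegular (a b : S) : TwoWith a b S ↔ IsWeaklyRegular S [a, b] := by
  rw [InjFibre.isWeaklyRegular_ring_iff]
  constructor
  · intro h i hi x hx
    match i, hi with
    | 0, _ =>
      simp only [List.getElem_cons_zero, List.take_zero, Ideal.ofList_nil, Ideal.mem_bot] at hx ⊢
      exact h.inj x hx
    | 1, _ =>
      simp only [List.getElem_cons_succ, List.getElem_cons_zero, List.take_succ_cons, List.take_zero,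
        Ideal.ofList_singleton, Ideal.mem_span_singleton'] at hx ⊢
      obtain ⟨n, hn⟩ := hx
      obtain ⟨z, hz⟩ := h.cancel x n (by rw [smul_eq_mul, smul_eq_mul, ← hn, mul_comm])
      exact ⟨z, by rw [hz, smul_eq_mul, mul_comm]⟩
  · intro h
    refine ⟨fun m hm => ?_, fun m n hmn => ?_⟩
    · have := h 0 (by simp) m (by simpa [Ideal.ofList_nil] using hm)
      simpa [Ideal.ofList_nil] using this
    · have := h 1 (by simp) m (by
        simp only [List.getElem_cons_succ, List.getElem_cons_zero, List.take_succ_cons, List.take_zero,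
          Ideal.ofList_singleton, Ideal.mem_span_singleton']
        exact ⟨n, by rw [smul_eq_mul, smul_eq_mul] at hmn; rw [hmn, mul_comm]⟩)
      simp only [List.take_succ_cons, List.take_zero, Ideal.ofList_singleton, Ideal.mem_span_singleton'] at this
      obtain ⟨z, hz⟩ := this
      exact ⟨z, by rw [smul_eq_mul, ← hz, mul_comm]⟩

theorem two_map_equiv (e : S ≃+* T) {a b : S} (h : TwoWith a b S) : TwoWith (e a) (e b) T where
  inj m hm := by
    have := h.inj (e.symm m) (by
      rw [smul_eq_mul] at hm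
      rw [smul_eq_mul, ← e.symm_apply_apply a, ← map_mul, hm, map_zero])
    simpa using congrArg e this
  cancel m n hmn := by
    obtain ⟨z, hz⟩ := h.cancel (e.symm m) (e.symm n) (by
      rw [smul_eq_mul, smul_eq_mul] at hmn
      rw [smul_eq_mul, smul_eq_mul, ← e.symm_apply_apply b, ← e.symm_apply_apply a, ← map_mul, ← map_mul, hmn])
    exact ⟨e z, by simpa using congrArg e hz⟩

theorem two_algebraMap_of_flat [Algebra S T] [Module.Flat S T] {a b : S} (h : TwoWith a b S) :
    TwoWith (algebraMap S T a) (algebraMap S T b) T where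
  inj m hm := (Purity.two_of_flat h T).inj m (by rw [Algebra.smul_def]; exact hm)
  cancel m n hmn := by
    obtain ⟨z, hz⟩ := (Purity.two_of_flat h T).cancel m n (by rw [Algebra.smul_def, Algebra.smul_def]; exact hmn)
    exact ⟨z, hz.trans (Algebra.smul_def a z)⟩

theorem two_of_faithfullyFlat [Algebra S T] [Module.FaithfullyFlat S T] {a b : S}
    (h : TwoWith (algebraMap S T a) (algebraMap S T b) T) : TwoWith a b S where
  inj m hm := by
    apply FaithfulSMul.algebraMap_injective S T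
    rw [map_zero]
    exact h.inj _ (by rw [smul_eq_mul] at hm ⊢; rw [← map_mul, hm, map_zero])
  cancel m n hmn := by
    obtain ⟨z, hz⟩ := h.cancel (algebraMap S T m) (algebraMap S T n) (by
      rw [smul_eq_mul, smul_eq_mul] at hmn
      rw [smul_eq_mul, smul_eq_mul, ← map_mul, ← map_mul, hmn])
    have hm : m ∈ ((Ideal.span {a}).map (algebraMap S T)).comap (algebraMap S T) := by
      rw [Ideal.mem_comap, hz, smul_eq_mul, Ideal.map_span, Set.image_singleton]
      exact Ideal.mul_mem_right _ _ (Ideal.mem_span_singleton_self _)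
    rw [Ideal.comap_map_eq_self_of_faithfullyFlat, Ideal.mem_span_singleton'] at hm
    obtain ⟨w, hw⟩ := hm
    exact ⟨w, by rw [smul_eq_mul, ← hw, mul_comm]⟩

/-- A regular pair in the maximal ideal forces dimension at least two. -/
theorem two_le_dim [IsLocalRing S] [IsNoetherianRing S] {a b : S} (ha : a ∈ IsLocalRing.maximalIdeal S)
    (hb : b ∈ IsLocalRing.maximalIdeal S) (h : IsWeaklyRegular S [a, b]) :
    (2 : WithBot ℕ∞) ≤ ringKrullDim S := by
  have hmem : ∀ r ∈ [a, b], r ∈ IsLocalRing.maximalIdeal S := by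
    intro r hr
    simp only [List.mem_cons, List.not_mem_nil, or_false] at hr
    rcases hr with rfl | rfl <;> assumption
  have hreg : IsRegular S [a, b] :=
    (IsLocalRing.isRegular_iff_isWeaklyRegular_of_subset_maximalIdeal hmem).2 h
  have hd := ringKrullDim_add_length_eq_ringKrullDim_of_isRegular [a, b] hreg
  have hle : Ideal.ofList [a, b] ≤ IsLocalRing.maximalIdeal S := Ideal.span_le.2 hmem
  haveI : Nontrivial (S ⧸ Ideal.ofList [a, b]) :=
    Ideal.Quotient.nontrivial_iff.2 fun h1 => (IsLocalRing.maximalIdeal.isMaximal S).ne_top (eq_top_iff.2 (h1 ▸ hle))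
  rw [← hd]
  exact le_add_of_nonneg_left ringKrullDim_nonneg_of_nontrivial

end basic

section fibre

variable {R S : Type u} [CommRing R] [CommRing S] [Algebra R S] (p : Ideal R) [p.IsPrime]

/-- An element of the extension of `I` to the fibre ring. -/
theorem exists_mul_mem (I : Ideal S) (c : S)
    (h : (1 : p.ResidueField) ⊗ₜ[R] c ∈ I.map (Algebra.TensorProduct.includeRight : S →ₐ[R] p.Fiber S)) :
    ∃ r ∉ p, algebraMap R S r * c ∈ I ⊔ p.map (algebraMap R S) := by
  letI : Algebra S (p.Fiber S) := Algebra.TensorProduct.rightAlgebra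
  let M := Algebra.algebraMapSubmonoid S p.primeCompl
  let e := Ideal.Fiber.algEquivAux₁ (S := S) p
  have h1 : e (algebraMap S (p.Fiber S) c) ∈ (I.map (algebraMap S (p.Fiber S))).map e :=
    Ideal.mem_map_of_mem _ h
  rw [e.commutes, ← Ideal.map_coe e, Ideal.map_map (I := I)] at h1
  let J := (p.map (algebraMap R S)).map (algebraMap S (Localization M))
  have h2 : Ideal.Quotient.mk J (algebraMap S (Localization M) c) ∈
      (I.map (algebraMap S (Localization M))).map (Ideal.Quotient.mk J) := by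
    rw [Ideal.map_map, show (Ideal.Quotient.mk J).comp (algebraMap S (Localization M)) =
      (e : p.Fiber S →+* _).comp (algebraMap S (p.Fiber S)) from RingHom.ext fun x => (e.commutes x).symm]
    exact h1
  rw [← Ideal.mem_comap, Ideal.comap_map_of_surjective _ Ideal.Quotient.mk_surjective,
    ← RingHom.ker_eq_comap_bot, Ideal.mk_ker, ← Ideal.map_sup,
    IsLocalization.algebraMap_mem_map_algebraMap_iff M] at h2
  obtain ⟨m, hm, hmc⟩ := h2
  obtain ⟨r, hr, rfl⟩ := hm
  exact ⟨r, hr, hmc⟩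

theorem one_tmul_eq_zero {j : S} (hj : j ∈ p.map (algebraMap R S)) : (1 : p.ResidueField) ⊗ₜ[R] j = 0 := by
  have h : p.map (algebraMap R S) ≤
      RingHom.ker (Algebra.TensorProduct.includeRight : S →ₐ[R] p.Fiber S) := by
    rw [Ideal.map_le_iff_le_comap]
    intro r hr
    rw [Ideal.mem_comap, RingHom.mem_ker, Algebra.TensorProduct.includeRight_apply, Algebra.algebraMap_eq_smul_one,
      ← TensorProduct.smul_tmul, ← Algebra.algebraMap_eq_smul_one, Ideal.algebraMap_residueField_eq_zero.2 hr,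
      TensorProduct.zero_tmul]
  exact h hj

theorem exists_smul_eq {I : Ideal S} {x : p.Fiber S}
    (hx : x ∈ I.map (Algebra.TensorProduct.includeRight : S →ₐ[R] p.Fiber S)) :
    ∃ r ∉ p, ∃ i ∈ I, r • x = (1 : p.ResidueField) ⊗ₜ[R] i := by
  obtain ⟨r, hr, s, hs⟩ := Ideal.Fiber.exists_smul_eq_one_tmul _ x
  obtain ⟨r', hr', h'⟩ := exists_mul_mem p I s (by
    rw [← hs, Algebra.smul_def]; exact Ideal.mul_mem_left _ _ hx)
  obtain ⟨i, hi, j, hj, hij⟩ := Submodule.mem_sup.1 h'
  refine ⟨r' * r, p.primeCompl.mul_mem hr' hr, i, hi, ?_⟩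
  rw [mul_smul, hs, ← TensorProduct.tmul_smul, Algebra.smul_def, ← hij, TensorProduct.tmul_add,
    one_tmul_eq_zero p hj, add_zero]

theorem isUnit_algebraMap_fiber {r : R} (hr : r ∉ p) : IsUnit (algebraMap R (p.Fiber S) r) := by
  rw [IsScalarTower.algebraMap_apply R p.ResidueField (p.Fiber S)]
  exact (Ne.isUnit (fun h => hr (Ideal.algebraMap_residueField_eq_zero.1 h))).map _

/-- A regular pair on a fibre is regular with flat quotients at all points of this fibre. -/
theorem seqAt_of_two_fibre [Algebra.FinitePresentation R S] [Module.Flat R S] {a b : S}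
    (h : TwoWith ((1 : p.ResidueField) ⊗ₜ[R] a) ((1 : p.ResidueField) ⊗ₜ[R] b) (p.Fiber S))
    (q : PrimeSpectrum S) (hq : q.asIdeal.comap (algebraMap R S) = p) : InjFibre.SeqAt R [a, b] q := by
  subst hq
  let p := q.asIdeal.comap (algebraMap R S)
  let S' := Localization.AtPrime q.asIdeal
  haveI : Module.Flat S S' := IsLocalization.flat _ q.asIdeal.primeCompl
  haveI : Module.Flat R S' := Module.Flat.trans R S S'
  let J : Ideal S' := p.map (algebraMap R S')
  let J₀ : Ideal S := p.map (algebraMap R S)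
  have hJ : J = J₀.map (algebraMap S S') := by
    rw [Ideal.map_map, ← IsScalarTower.algebraMap_eq]
  let ι : S →ₐ[R] p.Fiber S := Algebra.TensorProduct.includeRight
  -- membership in `K + pS'` is detected in the fibre ring
  have back : ∀ (K : Ideal S) (y : S), (∃ m ∉ q.asIdeal, ι (m * y) ∈ K.map ι) →
      algebraMap S S' y ∈ (K ⊔ J₀).map (algebraMap S S') := by
    rintro K y ⟨m, hm, hy⟩
    obtain ⟨r, hr, h'⟩ := exists_mul_mem p K (m * y) hy
    rw [IsLocalization.algebraMap_mem_map_algebraMap_iff q.asIdeal.primeCompl]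
    exact ⟨algebraMap R S r * m, q.asIdeal.primeCompl.mul_mem hr hm, by rwa [mul_assoc]⟩
  have forth : ∀ (K : Ideal S) (y : S), algebraMap S S' y ∈ (K ⊔ J₀).map (algebraMap S S') →
      ∃ m ∉ q.asIdeal, ι (m * y) ∈ K.map ι := by
    intro K y hy
    rw [IsLocalization.algebraMap_mem_map_algebraMap_iff q.asIdeal.primeCompl] at hy
    obtain ⟨m, hm, hmy⟩ := hy
    obtain ⟨k, hk, j, hj, hkj⟩ := Submodule.mem_sup.1 hmy
    refine ⟨m, hm, ?_⟩
    rw [← hkj, map_add, show ι j = 0 from one_tmul_eq_zero p hj, add_zero]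
    exact Ideal.mem_map_of_mem _ hk
  have hfrac : ∀ z : S', ∃ (y : S) (u : S'), IsUnit u ∧ z = u * algebraMap S S' y := by
    intro z
    obtain ⟨y, s, rfl⟩ := IsLocalization.exists_mk'_eq q.asIdeal.primeCompl z
    exact ⟨y, IsLocalization.mk' S' 1 s, IsUnit.of_mul_eq_one _
      (show IsLocalization.mk' S' 1 s * algebraMap S S' s = 1 by rw [IsLocalization.mk'_spec, map_one]),
      IsLocalization.mk'_eq_mul_mk'_one y s |>.trans (mul_comm _ _)⟩
  have hT : TwoWith (Ideal.Quotient.mk J (algebraMap S S' a)) (Ideal.Quotient.mk J (algebraMap S S' b))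
      (S' ⧸ J) := by
    refine ⟨fun z hz => ?_, fun z w hzw => ?_⟩
    · obtain ⟨z, rfl⟩ := Ideal.Quotient.mk_surjective z
      obtain ⟨y, u, hu, rfl⟩ := hfrac z
      rw [smul_eq_mul, ← map_mul, Ideal.Quotient.eq_zero_iff_mem] at hz
      rw [Ideal.Quotient.eq_zero_iff_mem, Ideal.unit_mul_mem_iff_mem _ hu, hJ,
        show J₀ = ⊥ ⊔ J₀ from bot_sup_eq J₀ |>.symm]
      rw [mul_left_comm, Ideal.unit_mul_mem_iff_mem _ hu, ← map_mul, hJ,
        show J₀ = ⊥ ⊔ J₀ from bot_sup_eq J₀ |>.symm] at hz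
      obtain ⟨m, hm, hmy⟩ := forth ⊥ _ hz
      rw [Ideal.map_bot, Ideal.mem_bot] at hmy
      refine back ⊥ y ⟨m, hm, ?_⟩
      rw [Ideal.map_bot, Ideal.mem_bot]
      refine h.inj _ ?_
      rw [smul_eq_mul, show (1 : p.ResidueField) ⊗ₜ[R] a = ι a from rfl, ← map_mul, mul_left_comm]
      exact hmy
    · obtain ⟨z, rfl⟩ := Ideal.Quotient.mk_surjective z
      obtain ⟨w, rfl⟩ := Ideal.Quotient.mk_surjective w
      rw [smul_eq_mul, smul_eq_mul, ← map_mul, ← map_mul, Ideal.Quotient.eq] at hzw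
      suffices z ∈ (Ideal.span {a} ⊔ J₀).map (algebraMap S S') by
        rw [Ideal.map_sup, ← hJ, Ideal.map_span, Set.image_singleton] at this
        obtain ⟨k, hk, j, hj, rfl⟩ := Submodule.mem_sup.1 this
        obtain ⟨c, rfl⟩ := Ideal.mem_span_singleton'.1 hk
        refine ⟨Ideal.Quotient.mk J c, ?_⟩
        rw [map_add, Ideal.Quotient.eq_zero_iff_mem.2 hj, add_zero, smul_eq_mul, ← map_mul, mul_comm]
      have hb : algebraMap S S' b * z ∈ (Ideal.span {a} ⊔ J₀).map (algebraMap S S') := by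
        rw [Ideal.map_sup, ← hJ, Ideal.map_span, Set.image_singleton]
        refine Submodule.mem_sup.2 ⟨algebraMap S S' a * w, Ideal.mul_mem_right _ _ (Ideal.mem_span_singleton_self _),
          _, hzw, ?_⟩
        ring
      obtain ⟨y, u, hu, rfl⟩ := hfrac z
      rw [Ideal.unit_mul_mem_iff_mem _ hu]
      rw [mul_left_comm, Ideal.unit_mul_mem_iff_mem _ hu, ← map_mul] at hb
      obtain ⟨m, hm, hmy⟩ := forth _ _ hb
      rw [Ideal.map_span, Set.image_singleton, Ideal.mem_span_singleton'] at hmy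
      obtain ⟨n, hn⟩ := hmy
      obtain ⟨c, hc⟩ := h.cancel (ι (m * y)) n (by
        rw [smul_eq_mul, smul_eq_mul, show (1 : p.ResidueField) ⊗ₜ[R] b = ι b from rfl,
          show (1 : p.ResidueField) ⊗ₜ[R] a = ι a from rfl, mul_comm (ι a), hn, ← map_mul, mul_left_comm])
      refine back _ y ⟨m, hm, ?_⟩
      rw [hc, smul_eq_mul, Ideal.map_span, Set.image_singleton]
      exact Ideal.mul_mem_right _ _ (Ideal.mem_span_singleton_self _)
  refine InjFibre.seqAt_of_fibre q S' [a, b] ?_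
  rw [show [a, b].map (algebraMap S S') = [algebraMap S S' a, algebraMap S S' b] from rfl,
    isWeaklyRegular_map_algebraMap_iff (S := S' ⧸ J) _ _ |>.symm]
  exact (two_iff_isWeaklyRegular _ _).1 hT

/-- The pair is regular on every fibre when it is regular with flat quotients everywhere. -/
theorem two_fibre_of_seqAt {a b : S} (h : ∀ q, InjFibre.SeqAt R [a, b] q) :
    TwoWith ((1 : p.ResidueField) ⊗ₜ[R] a) ((1 : p.ResidueField) ⊗ₜ[R] b) (p.Fiber S) := by
  obtain ⟨h1, h2⟩ := InjFibre.isWeaklyRegular_of_seqAt _ h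
  exact (two_iff_isWeaklyRegular _ _).2 (InjFibre.isWeaklyRegular_baseChange _ h1 h2 p.ResidueField)

/-- The pair is regular on the ring when it is regular with flat quotients everywhere. -/
theorem two_of_seqAt {a b : S} (h : ∀ q, InjFibre.SeqAt R [a, b] q) : TwoWith a b S :=
  (two_iff_isWeaklyRegular _ _).2 (InjFibre.isWeaklyRegular_of_seqAt _ h).1

end fibre

/-- Points where a pair is regular with flat quotients, containing it, have fibre dimension at least two. -/
theorem two_le_dim_of_seqAt {R S : Type u} [CommRing R] [CommRing S] [Algebra R S] [IsNoetherianRing S]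
    {a b : S} (q : PrimeSpectrum S) (ha : a ∈ q.asIdeal) (hb : b ∈ q.asIdeal) (h : InjFibre.SeqAt R [a, b] q) :
    (2 : WithBot ℕ∞) ≤ ringKrullDim (Localization.AtPrime q.asIdeal ⧸
      (q.asIdeal.comap (algebraMap R S)).map (algebraMap R (Localization.AtPrime q.asIdeal))) := by
  let p := q.asIdeal.comap (algebraMap R S)
  let S' := Localization.AtPrime q.asIdeal
  obtain ⟨h1, h2⟩ := (InjFibre.seqAt_iff [a, b] q S').1 h
  let J : Ideal S' := p.map (algebraMap R S')
  have h3 := InjFibre.isWeaklyRegular_baseChange _ h1 (fun i hi => h2 i (by simpa using hi)) (R ⧸ p)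
  let e : (R ⧸ p) ⊗[R] S' ≃ₐ[R] S' ⧸ J := (Algebra.TensorProduct.comm _ _ _).trans
    ((Algebra.TensorProduct.quotIdealMapEquivTensorQuot S' p).symm.restrictScalars R)
  have he : ∀ x : S', e ((1 : R ⧸ p) ⊗ₜ[R] x) = Ideal.Quotient.mk J x := by
    intro x
    show (Algebra.TensorProduct.quotIdealMapEquivTensorQuot S' p).symm
      ((Algebra.TensorProduct.comm R (R ⧸ p) S') ((1 : R ⧸ p) ⊗ₜ[R] x)) = _
    rw [Algebra.TensorProduct.comm_tmul, AlgEquiv.symm_apply_eq]
    rfl
  have h4 : TwoWith (Ideal.Quotient.mk J (algebraMap S S' a)) (Ideal.Quotient.mk J (algebraMap S S' b))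
      (S' ⧸ J) := by
    rw [← he, ← he]
    exact two_map_equiv e.toRingEquiv ((two_iff_isWeaklyRegular _ _).2 h3)
  have hJle : J ≤ IsLocalRing.maximalIdeal S' := by
    rw [show J = (p.map (algebraMap R S)).map (algebraMap S S') by rw [Ideal.map_map, ← IsScalarTower.algebraMap_eq],
      ← Localization.AtPrime.map_eq_maximalIdeal]
    exact Ideal.map_mono Ideal.map_comap_le
  haveI : IsNoetherianRing S' := IsLocalization.isNoetherianRing q.asIdeal.primeCompl _ inferInstance
  haveI : Nontrivial (S' ⧸ J) :=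
    Ideal.Quotient.nontrivial_iff.2 fun h1 => (IsLocalRing.maximalIdeal.isMaximal S').ne_top (eq_top_iff.2 (h1 ▸ hJle))
  haveI : IsLocalRing (S' ⧸ J) := IsLocalRing.of_surjective' _ Ideal.Quotient.mk_surjective
  have hmem : ∀ x ∈ q.asIdeal, Ideal.Quotient.mk J (algebraMap S S' x) ∈ IsLocalRing.maximalIdeal (S' ⧸ J) := by
    intro x hx
    rw [← IsLocalRing.map_maximalIdeal_of_surjective _ Ideal.Quotient.mk_surjective,
      ← Localization.AtPrime.map_eq_maximalIdeal]
    exact Ideal.mem_map_of_mem _ (Ideal.mem_map_of_mem _ hx)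
  exact two_le_dim (hmem a ha) (hmem b hb) ((two_iff_isWeaklyRegular _ _).1 h4)

/-- Regularity on a fibre descends along an extension of the base. -/
theorem two_fibre_descent {R₁ R A₁ : Type u} [CommRing R₁] [CommRing R] [CommRing A₁] [Algebra R₁ R]
    [Algebra R₁ A₁] (p : Ideal R) [p.IsPrime] (p₁ : Ideal R₁) [p₁.IsPrime] (hp : p₁ = p.comap (algebraMap R₁ R))
    {a₁ b₁ : A₁}
    (h : TwoWith ((1 : p.ResidueField) ⊗ₜ[R] ((1 : R) ⊗ₜ[R₁] a₁)) ((1 : p.ResidueField) ⊗ₜ[R] ((1 : R) ⊗ₜ[R₁] b₁))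
      (p.Fiber (R ⊗[R₁] A₁))) :
    TwoWith ((1 : p₁.ResidueField) ⊗ₜ[R₁] a₁) ((1 : p₁.ResidueField) ⊗ₜ[R₁] b₁) (p₁.Fiber A₁) := by
  subst hp
  let p₁ := p.comap (algebraMap R₁ R)
  let k₁ := p₁.ResidueField
  let k := p.ResidueField
  let θ : k₁ →+* k := Ideal.ResidueField.map p₁ p (algebraMap R₁ R) rfl
  letI : Algebra k₁ k := θ.toAlgebra
  haveI : IsScalarTower R₁ k₁ k := IsScalarTower.of_algebraMap_eq fun r => by
    rw [IsScalarTower.algebraMap_apply R₁ R k]
    exact (Ideal.ResidueField.map_algebraMap p₁ p (algebraMap R₁ R) rfl r).symm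
  let e₁ : p.Fiber (R ⊗[R₁] A₁) ≃ₐ[k] k ⊗[R₁] A₁ := Algebra.TensorProduct.cancelBaseChange R₁ R k k A₁
  let e₂ : k ⊗[k₁] (k₁ ⊗[R₁] A₁) ≃ₐ[k] k ⊗[R₁] A₁ := Algebra.TensorProduct.cancelBaseChange R₁ k₁ k k A₁
  let e₃ : (k₁ ⊗[R₁] A₁) ⊗[k₁] k ≃ₐ[k₁] k ⊗[k₁] (k₁ ⊗[R₁] A₁) := Algebra.TensorProduct.comm _ _ _
  let e : p.Fiber (R ⊗[R₁] A₁) ≃+* (k₁ ⊗[R₁] A₁) ⊗[k₁] k :=
    (e₁.toRingEquiv.trans e₂.symm.toRingEquiv).trans e₃.symm.toRingEquiv
  have he : ∀ x : A₁, e ((1 : k) ⊗ₜ[R] ((1 : R) ⊗ₜ[R₁] x)) =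
      algebraMap (k₁ ⊗[R₁] A₁) ((k₁ ⊗[R₁] A₁) ⊗[k₁] k) ((1 : k₁) ⊗ₜ[R₁] x) := by
    intro x
    show e₃.symm (e₂.symm (e₁ ((1 : k) ⊗ₜ[R] ((1 : R) ⊗ₜ[R₁] x)))) = _
    rw [AlgEquiv.symm_apply_eq, AlgEquiv.symm_apply_eq]
    show e₁ _ = e₂ (e₃ (((1 : k₁) ⊗ₜ[R₁] x) ⊗ₜ[k₁] (1 : k)))
    rw [Algebra.TensorProduct.comm_tmul]
    rw [show e₁ ((1 : k) ⊗ₜ[R] ((1 : R) ⊗ₜ[R₁] x)) = ((1 : R) • (1 : k)) ⊗ₜ[R₁] x from
      Algebra.TensorProduct.cancelBaseChange_tmul R₁ R k k A₁ (1 : k) (1 : R) x,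
      show e₂ ((1 : k) ⊗ₜ[k₁] ((1 : k₁) ⊗ₜ[R₁] x)) = ((1 : k₁) • (1 : k)) ⊗ₜ[R₁] x from
      Algebra.TensorProduct.cancelBaseChange_tmul R₁ k₁ k k A₁ (1 : k) (1 : k₁) x, one_smul, one_smul]
  haveI : Module.Free k₁ k := Module.Free.of_divisionRing k₁ k
  haveI : Nontrivial k := inferInstance
  haveI : Module.FaithfullyFlat k₁ k := Module.FaithfullyFlat.instOfNontrivialOfFree k₁ k
  haveI : Module.FaithfullyFlat (k₁ ⊗[R₁] A₁) ((k₁ ⊗[R₁] A₁) ⊗[k₁] k) := inferInstance
  refine two_of_faithfullyFlat (T := (k₁ ⊗[R₁] A₁) ⊗[k₁] k) ?_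
  rw [← he, ← he]
  exact two_map_equiv e h

/-- A regular pair in an ideal on a fibre of a smooth algebra. -/
theorem exists_pair_fibre {R S : Type u} [CommRing R] [CommRing S] [Algebra R S] [Algebra.Smooth R S]
    (p : Ideal R) [p.IsPrime] (I : Ideal S)
    (hI : ∀ (q : Ideal S) [q.IsPrime], q.comap (algebraMap R S) = p → I ≤ q →
      (2 : WithBot ℕ∞) ≤ ringKrullDim (Localization.AtPrime q ⧸ p.map (algebraMap R (Localization.AtPrime q)))) :
    ∃ a b : S, a ∈ I ∧ b ∈ I ∧
      ∀ q : PrimeSpectrum S, q.asIdeal.comap (algebraMap R S) = p → InjFibre.SeqAt R [a, b] q := by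
  let F := p.Fiber S
  let ι : S →ₐ[R] F := Algebra.TensorProduct.includeRight
  haveI : Algebra.Smooth p.ResidueField F := inferInstance
  haveI : IsRegularRing F := GeomProp.isRegularRing_of_smooth p.ResidueField F
  haveI : IsNoetherianRing F := Algebra.FiniteType.isNoetherianRing p.ResidueField F
  obtain ⟨a', b', ha', hb', hab⟩ := Purity.exists_pair_of_depth (I.map ι) fun Q hQ hle => by
    haveI := hQ
    haveI := IsRegularRing.isRegularLocalRing_localization Q
    have hd : (2 : WithBot ℕ∞) ≤ ringKrullDim (Localization.AtPrime Q) := by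
      haveI : Q.LiesOver p := inferInstance
      let q := Q.comap ι
      have hq : q.comap (algebraMap R S) = p := by
        rw [Ideal.over_def Q p]
        show _ = Q.comap (algebraMap R F)
        rw [← ι.comp_algebraMap]
        rfl
      refine (hI q hq (Ideal.map_le_iff_le_comap.1 hle)).trans_eq ?_
      rw [ringKrullDim_eq_of_ringEquiv (Ideal.Fiber.algEquivAux₂ p Q).toRingEquiv]
      exact ringKrullDim_eq_of_ringEquiv (Ideal.quotEquivOfEq
        (by rw [Ideal.map_map, ← IsScalarTower.algebraMap_eq]))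
    have hCM := CMFlat.isCohenMacaulayLocalRing_of_isRegularLocalRing (Localization.AtPrime Q)
    have := hCM.supportDim_eq_depth
    rw [Module.supportDim_self_eq_ringKrullDim] at this
    rw [this] at hd
    exact WithBot.coe_le_coe.1 hd
  obtain ⟨r, hr, a, ha, hae⟩ := exists_smul_eq p ha'
  obtain ⟨r', hr', b, hb, hbe⟩ := exists_smul_eq p hb'
  refine ⟨a, b, ha, hb, fun q hq => seqAt_of_two_fibre p ?_ q hq⟩
  rw [← hae, ← hbe, Algebra.smul_def, Algebra.smul_def]
  obtain ⟨u, hu⟩ := isUnit_algebraMap_fiber (S := S) p hr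
  obtain ⟨v, hv⟩ := isUnit_algebraMap_fiber (S := S) p hr'
  rw [← hu, ← hv]
  refine ⟨fun m hm => hab.inj m ?_, fun m n hmn => ?_⟩
  · rw [smul_eq_mul, mul_assoc] at hm
    exact u.isUnit.mul_right_eq_zero.1 hm
  · simp only [smul_eq_mul, mul_assoc] at hmn
    obtain ⟨z, hz⟩ := hab.cancel m ((↑v⁻¹ : F) * (u * n)) (by
      simp only [smul_eq_mul]
      calc b' * m = (↑v⁻¹ : F) * (v * (b' * m)) := by rw [← mul_assoc, Units.inv_mul, one_mul]
        _ = (↑v⁻¹ : F) * (u * (a' * n)) := by rw [hmn]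
        _ = a' * ((↑v⁻¹ : F) * (u * n)) := by ring)
    refine ⟨(↑u⁻¹ : F) * z, ?_⟩
    rw [hz, smul_eq_mul, smul_eq_mul]
    calc a' * z = ((u : F) * ↑u⁻¹) * (a' * z) := by rw [Units.mul_inv, one_mul]
      _ = (u : F) * a' * (↑u⁻¹ * z) := by ring

end Groth.Agent.PurFib
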