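import Groth.Agent.PurFib.Fibre
import Groth.Agent.PureExtend.LocNoeth
import Groth.Agent.LefEssSurj.FlatPurity
import Groth.Agent.S0247
import Groth.Agent.SmDesc.Scheme
import Groth.Agent.FibreDimBC.Basic

/-!
# Purity for smooth schemes over a Noetherian base, in codimension two on the fibres
-/

set_option autoImplicit false
set_option backward.isDefEq.respectTransparency false
set_option linter.style.haveILetI false

universe u

open CategoryTheory AlgebraicGeometry IsLocalRing Limits

namespace Groth.Agent.PurFib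

variable {X S : Scheme.{u}}

/-- The fibre local ring on affine charts. -/
theorem ringKrullDim_fiber_chart (f : X ⟶ S) {O : S.Opens} (hO : IsAffineOpen O) {V : X.Opens}
    (hV : IsAffineOpen V) (e : V ≤ f ⁻¹ᵁ O) {x : X} (hx : x ∈ V) :
    letI := (f.appLE O V e).hom.toAlgebra
    ringKrullDim ((f.fiber (f x)).presheaf.stalk (f.asFiber x)) =
      ringKrullDim (Localization.AtPrime (hV.primeIdealOf ⟨x, hx⟩).asIdeal ⧸
        ((hV.primeIdealOf ⟨x, hx⟩).asIdeal.comap (algebraMap Γ(S, O) Γ(X, V))).map
          (algebraMap Γ(S, O) (Localization.AtPrime (hV.primeIdealOf ⟨x, hx⟩).asIdeal))) := by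
  letI := (f.appLE O V e).hom.toAlgebra
  let q := (hV.primeIdealOf ⟨x, hx⟩).asIdeal
  obtain ⟨E⟩ := CMFlat.nonempty_fiberStalk_equiv f x
  rw [← ringKrullDim_eq_of_ringEquiv E]
  have hcomap := congr($(IsAffineOpen.comap_primeIdealOf_appLE O hO V hV e hx).1)
  let i := IsAffineOpen.arrowStalkMapIso f O hO V hV e hx
  suffices key : ∀ (p : Ideal Γ(S, O)) (_ : p.IsPrime) (hp : p = q.comap (f.appLE O V e).hom)
      (eY : S.presheaf.stalk (f x) ≃+* Localization.AtPrime p)
      (eX : X.presheaf.stalk x ≃+* Localization.AtPrime q),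
      (∀ a, eX ((f.stalkMap x).hom a) = Localization.localRingHom p q (f.appLE O V e).hom hp (eY a)) →
      ringKrullDim (X.presheaf.stalk x ⧸ (maximalIdeal (S.presheaf.stalk (f x))).map (f.stalkMap x).hom) =
        ringKrullDim (Localization.AtPrime q ⧸ p.map (algebraMap Γ(S, O) (Localization.AtPrime q))) by
    refine (key _ inferInstance hcomap.symm (Iso.commRingCatIsoToRingEquiv (Arrow.leftFunc.mapIso i))
      (Iso.commRingCatIsoToRingEquiv (Arrow.rightFunc.mapIso i))
      fun a => (congr($(i.hom.w).hom a)).symm).trans ?_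
    rw [← hcomap]
    rfl
  intro p hp' hp eY eX h
  refine ringKrullDim_eq_of_ringEquiv (Ideal.quotientEquiv _ _ eX ?_)
  have h1 : (eX : X.presheaf.stalk x →+* Localization.AtPrime q).comp (f.stalkMap x).hom =
      (Localization.localRingHom p q (f.appLE O V e).hom hp).comp (eY : S.presheaf.stalk (f x) →+* _) :=
    RingHom.ext h
  show p.map (algebraMap Γ(S, O) (Localization.AtPrime q)) =
    ((maximalIdeal (S.presheaf.stalk (f x))).map (f.stalkMap x).hom).map
      (eX : X.presheaf.stalk x →+* Localization.AtPrime q)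
  rw [Ideal.map_map, h1, ← Ideal.map_map]
  have hm : (maximalIdeal (S.presheaf.stalk (f x))).map (eY : S.presheaf.stalk (f x) →+* Localization.AtPrime p) =
      maximalIdeal (Localization.AtPrime p) := by
    haveI : ((maximalIdeal (S.presheaf.stalk (f x))).map
        (eY : S.presheaf.stalk (f x) →+* Localization.AtPrime p)).IsMaximal := Ideal.map_isMaximal_of_equiv eY
    exact IsLocalRing.eq_maximalIdeal ‹_›
  rw [hm]
  rw [← Localization.AtPrime.map_eq_maximalIdeal, Ideal.map_map]
  refine congrArg (Ideal.map · p) (RingHom.ext fun r => ?_)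
  rw [RingHom.comp_apply, Localization.localRingHom_to_map]
  rfl

/-- Depth two and purity at the points of fibre codimension at least two. -/
theorem depth_purity_of_fibre [IsLocallyNoetherian S] (f : X ⟶ S) [Smooth f] (x : X)
    (hd : (2 : WithBot ℕ∞) ≤ ringKrullDim ((f.fiber (f x)).presheaf.stalk (f.asFiber x))) :
    (2 : ℕ∞) ≤ LocCoh.depth (X.presheaf.stalk x) (X.presheaf.stalk x) ∧
      FEt.PurityHolds (X.presheaf.stalk x) := by
  obtain ⟨hNX, hNS, hflat, hreg⟩ := GeomProp.stalk_setup f x
    (GeomProp.mem_smoothLocus_of_nhd f x ⟨⊤, trivial, inferInstance⟩)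
  haveI := hNX
  haveI := hNS
  haveI := hreg
  letI := (f.stalkMap x).hom.toAlgebra
  haveI : Module.Flat (S.presheaf.stalk (f x)) (X.presheaf.stalk x) := hflat
  haveI : IsLocalHom (algebraMap (S.presheaf.stalk (f x)) (X.presheaf.stalk x)) :=
    inferInstanceAs (IsLocalHom (f.stalkMap x).hom)
  obtain ⟨E⟩ := CMFlat.nonempty_fiberStalk_equiv f x
  let T := (X.presheaf.stalk x) ⧸ (maximalIdeal (S.presheaf.stalk (f x))).map
    (algebraMap (S.presheaf.stalk (f x)) (X.presheaf.stalk x))
  haveI : IsRegularLocalRing T := hreg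
  have hdT : (2 : WithBot ℕ∞) ≤ ringKrullDim T := hd.trans_eq (ringKrullDim_eq_of_ringEquiv E).symm
  have hCM := CMFlat.isCohenMacaulayLocalRing_of_isRegularLocalRing T
  haveI := hCM
  have hdep : (2 : ℕ∞) ≤ LocCoh.depth T T := by
    have := hCM.supportDim_eq_depth
    rw [Module.supportDim_self_eq_ringKrullDim] at this
    rw [this] at hdT
    exact WithBot.coe_le_coe.1 hdT
  refine ⟨CMFlat.le_depth_of_fibre (R := S.presheaf.stalk (f x)) (d := 2) (by exact_mod_cast hdT), ?_⟩
  exact LefEssSurj.purityHolds_of_fibre (S.presheaf.stalk (f x)) (X.presheaf.stalk x) hdep (S0247.result T hdT)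

/-- Extension of covers off a set of fibre codimension at least two, Noetherian base. -/
theorem essSurj_of_fibre [IsLocallyNoetherian S] (f : X ⟶ S) [Smooth f] (U : X.Opens)
    (hU : ∀ x : X, x ∉ U → (2 : WithBot ℕ∞) ≤ ringKrullDim ((f.fiber (f x)).presheaf.stalk (f.asFiber x))) :
    (FEt.restrict U.ι).EssSurj := by
  haveI : IsLocallyNoetherian X := LocallyOfFiniteType.isLocallyNoetherian f
  refine PureExtend.essSurj_restrict_locallyNoetherian U
    (fun x hx => (depth_purity_of_fibre f x (hU x hx)).1) fun V x hx => ?_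
  exact LefEssSurj.purityHolds_congr (asIso (V.ι.stalkMap x)).symm.commRingCatIsoToRingEquiv
    (depth_purity_of_fibre f x.1 (hU x.1 hx)).2

end Groth.Agent.PurFib
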