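import Groth.Agent.PurFib.Main
import Groth.Prelude.Def_CInt

/-!
# Depth two at points of fibre codimension two, over any base
-/

set_option autoImplicit false
set_option backward.isDefEq.respectTransparency false
set_option linter.style.haveILetI false

universe u

open AlgebraicGeometry CategoryTheory TopologicalSpace Limits Opposite IsLocalRing
open Groth.Agent.Purity (TwoWith)

namespace Groth.Agent.PurFib

/-- Fibre dimensions grow along specialisations inside a fibre. -/
theorem dim_fibre_mono {R A : Type u} [CommRing R] [CommRing A] [Algebra R A] (p : Ideal R) {q₀ q : Ideal A}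
    [q₀.IsPrime] [q.IsPrime] (hle : q₀ ≤ q) :
    ringKrullDim (Localization.AtPrime q₀ ⧸ p.map (algebraMap R (Localization.AtPrime q₀))) ≤
      ringKrullDim (Localization.AtPrime q ⧸ p.map (algebraMap R (Localization.AtPrime q))) := by
  have hsub : q.primeCompl ≤ q₀.primeCompl := fun a ha h => ha (hle h)
  letI : Algebra (Localization.AtPrime q) (Localization.AtPrime q₀) :=
    IsLocalization.localizationAlgebraOfSubmonoidLe (Localization.AtPrime q) (Localization.AtPrime q₀) _ _ hsub
  haveI : IsScalarTower A (Localization.AtPrime q) (Localization.AtPrime q₀) :=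
    IsLocalization.localization_isScalarTower_of_submonoid_le _ _ _ _ hsub
  haveI : IsScalarTower R (Localization.AtPrime q) (Localization.AtPrime q₀) :=
    IsScalarTower.to₁₃₄ R A (Localization.AtPrime q) (Localization.AtPrime q₀)
  let J := p.map (algebraMap R (Localization.AtPrime q))
  let J₀ := p.map (algebraMap R (Localization.AtPrime q₀))
  let φ : (Localization.AtPrime q ⧸ J) →+* Localization.AtPrime q₀ ⧸ J₀ :=
    Ideal.quotientMap J₀ (algebraMap (Localization.AtPrime q) (Localization.AtPrime q₀))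
      (Ideal.map_le_iff_le_comap.1 (by rw [Ideal.map_map, ← IsScalarTower.algebraMap_eq]))
  have hinj : Function.Injective (PrimeSpectrum.comap φ) := by
    intro P P' h
    have h1 : PrimeSpectrum.comap (algebraMap A (Localization.AtPrime q₀))
        (PrimeSpectrum.comap (Ideal.Quotient.mk J₀) P) =
      PrimeSpectrum.comap (algebraMap A (Localization.AtPrime q₀))
        (PrimeSpectrum.comap (Ideal.Quotient.mk J₀) P') := by
      have e : (Ideal.Quotient.mk J₀).comp (algebraMap A (Localization.AtPrime q₀)) =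
          (φ.comp (Ideal.Quotient.mk J)).comp (algebraMap A (Localization.AtPrime q)) := by
        refine RingHom.ext fun a => ?_
        show Ideal.Quotient.mk J₀ (algebraMap A _ a) = φ (Ideal.Quotient.mk J (algebraMap A _ a))
        rw [Ideal.quotientMap_mk, ← IsScalarTower.algebraMap_apply]
      rw [← PrimeSpectrum.comap_comp_apply, ← PrimeSpectrum.comap_comp_apply, e, PrimeSpectrum.comap_comp_apply,
        PrimeSpectrum.comap_comp_apply, PrimeSpectrum.comap_comp_apply, PrimeSpectrum.comap_comp_apply, h]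
    exact PrimeSpectrum.comap_injective_of_surjective _ Ideal.Quotient.mk_surjective
      (PrimeSpectrum.localization_comap_injective (Localization.AtPrime q₀) q₀.primeCompl h1)
  exact Order.krullDim_le_of_strictMono (PrimeSpectrum.comap φ)
    (fun P P' h => lt_of_le_of_ne (fun x hx => h.le hx) fun e => h.ne (hinj e))

/-- Depth two at a point of fibre codimension at least two of a smooth scheme. -/
theorem two_le_depth_stalk {X S : Scheme.{u}} (f : X ⟶ S) [Smooth f] (x : X)
    (hd : (2 : WithBot ℕ∞) ≤ ringKrullDim ((f.fiber (f x)).presheaf.stalk (f.asFiber x))) :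
    (2 : ℕ∞) ≤ LocCoh.depth (X.presheaf.stalk x) (X.presheaf.stalk x) := by
  obtain ⟨_, ⟨O, hO, rfl⟩, hxO, -⟩ := S.isBasis_affineOpens.exists_subset_of_mem_open
    (Set.mem_univ (f x)) isOpen_univ
  obtain ⟨_, ⟨V, hV, rfl⟩, hxV, he⟩ := X.isBasis_affineOpens.exists_subset_of_mem_open
    (show x ∈ f ⁻¹ᵁ O from hxO) (f ⁻¹ᵁ O).2
  have e : V ≤ f ⁻¹ᵁ O := he
  letI := (f.appLE O V e).hom.toAlgebra
  haveI : Algebra.Smooth Γ(S, O) Γ(X, V) :=
    HasRingHomProperty.appLE @Smooth f inferInstance ⟨O, hO⟩ ⟨V, hV⟩ e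
  let q₀ := hV.primeIdealOf ⟨x, hxV⟩
  let p := q₀.asIdeal.comap (algebraMap Γ(S, O) Γ(X, V))
  obtain ⟨a, b, ha, hb, hseq⟩ := exists_pair_fibre p q₀.asIdeal fun q hq _ hle => by
    haveI := hq
    refine le_trans ?_ (dim_fibre_mono p hle)
    exact hd.trans_eq (ringKrullDim_fiber_chart f hO hV e hxV)
  letI := X.presheaf.algebra_section_stalk ⟨x, hxV⟩
  haveI : IsLocalization.AtPrime (X.presheaf.stalk x) q₀.asIdeal := hV.isLocalization_stalk ⟨x, hxV⟩
  letI : Algebra Γ(S, O) (X.presheaf.stalk x) :=
    ((algebraMap Γ(X, V) (X.presheaf.stalk x)).comp (algebraMap Γ(S, O) Γ(X, V))).toAlgebra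
  haveI : IsScalarTower Γ(S, O) Γ(X, V) (X.presheaf.stalk x) := IsScalarTower.of_algebraMap_eq fun _ => rfl
  obtain ⟨h1, -⟩ := (InjFibre.seqAt_iff (R := Γ(S, O)) [a, b] q₀ (X.presheaf.stalk x)).1 (hseq q₀ rfl)
  rw [LocCoh.depth, LocCoh.idealDepth, if_neg (by
    rw [smul_eq_mul, Ideal.mul_top]; exact (maximalIdeal.isMaximal _).ne_top)]
  refine le_iSup₂_of_le ([a, b].map (algebraMap Γ(X, V) (X.presheaf.stalk x))) ⟨h1, fun r hr => ?_⟩ ?_
  · simp only [List.map_cons, List.map_nil, List.mem_cons, List.not_mem_nil, or_false] at hr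
    rcases hr with rfl | rfl
    · exact (IsLocalization.AtPrime.to_map_mem_maximal_iff (X.presheaf.stalk x) q₀.asIdeal a).2 ha
    · exact (IsLocalization.AtPrime.to_map_mem_maximal_iff (X.presheaf.stalk x) q₀.asIdeal b).2 hb
  · simp

end Groth.Agent.PurFib
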