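import Groth.Agent.PurFib.Hartogs
import Mathlib.AlgebraicGeometry.RelativeGluing

/-!
# Gluing extensions of a finite étale cover given on affine opens
-/

set_option autoImplicit false
set_option maxHeartbeats 1000000
set_option backward.isDefEq.respectTransparency false
set_option linter.style.haveILetI false

universe u

open AlgebraicGeometry CategoryTheory TopologicalSpace Limits Opposite
open Groth.Agent.Purity (TwoWith)

noncomputable section

namespace Groth.Agent.PurFib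

variable {X : Scheme.{u}}

/-- Goodness on an open subscheme. -/
theorem GoodFor.preimage_openImmersion {Y : Scheme.{u}} (ι : Y ⟶ X) [IsOpenImmersion ι] {U V : X.Opens}
    (h : GoodFor U V) (hle : V ≤ ι.opensRange) : GoodFor (ι ⁻¹ᵁ U) (ι ⁻¹ᵁ V) := by
  obtain ⟨hV, a, b, haU, hbU, hab⟩ := h
  haveI : IsIso (ι.app V) := Scheme.Hom.isIso_app ι V hle
  refine ⟨hV.preimage_of_isOpenImmersion ι hle, ι.app V a, ι.app V b, ?_, ?_, ?_⟩
  · exact (Scheme.preimage_basicOpen ι a).symm.trans_le (Scheme.Hom.preimage_mono ι haU)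
  · exact (Scheme.preimage_basicOpen ι b).symm.trans_le (Scheme.Hom.preimage_mono ι hbU)
  · exact two_map_equiv (asIso (ι.app V)).commRingCatIsoToRingEquiv hab

/-- An open immersion with good complement is bijective on global sections. -/
theorem bijective_appTop_of_good {Y P : Scheme.{u}} (j : P ⟶ Y) [IsOpenImmersion j]
    (hgood : ∀ y : Y, ∃ W, y ∈ W ∧ GoodFor j.opensRange W) : Function.Bijective j.appTop := by
  haveI : IsIso (j.app (⊤ ⊓ j.opensRange)) := Scheme.Hom.isIso_app j _ inf_le_right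
  have hpre : j ⁻¹ᵁ (⊤ : Y.Opens) ≤ j ⁻¹ᵁ (⊤ ⊓ j.opensRange) := fun y _ => ⟨trivial, y, rfl⟩
  have key : ∀ s, j.app ⊤ s = P.presheaf.map (homOfLE hpre).op
      (j.app (⊤ ⊓ j.opensRange) (Y.presheaf.map (homOfLE (inf_le_left : ⊤ ⊓ j.opensRange ≤ ⊤)).op s)) := by
    intro s
    rw [← ConcreteCategory.comp_apply, ← ConcreteCategory.comp_apply, Scheme.Hom.naturality_assoc,
      ← Functor.map_comp, Subsingleton.elim (((Opens.map j.base).map _).op ≫ _) (𝟙 (op (j ⁻¹ᵁ ⊤))),
      CategoryTheory.Functor.map_id, Category.comp_id]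
  haveI : IsIso (homOfLE hpre) := by
    refine ⟨homOfLE (fun y _ => trivial), ?_, ?_⟩ <;> exact Subsingleton.elim _ _
  have h1 := bijective_res hgood ⊤
  have h2 := ConcreteCategory.bijective_of_isIso (j.app (⊤ ⊓ j.opensRange))
  have h3 := ConcreteCategory.bijective_of_isIso (P.presheaf.map (homOfLE hpre).op)
  show Function.Bijective (j.app ⊤)
  rw [show ⇑(j.app ⊤) = fun s => P.presheaf.map (homOfLE hpre).op
      (j.app (⊤ ⊓ j.opensRange) (Y.presheaf.map (homOfLE (inf_le_left : ⊤ ⊓ j.opensRange ≤ ⊤)).op s)) from funext key]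
  exact h3.comp (h2.comp h1)

section

variable {U : X.Opens} {E : Scheme.{u}} (h : E ⟶ U.toScheme)

/-- The open of `E` over `W`. -/
abbrev over' (W : X.Opens) : E.Opens := (h ≫ U.ι) ⁻¹ᵁ W

/-- An extension of the cover over an affine open. -/
def HasExt (W : X.Opens) : Prop :=
  IsAffineOpen W ∧ ∃ (Z : Scheme.{u}) (ρ : Z ⟶ W.toScheme) (j : (over' h W).toScheme ⟶ Z),
    FEt.prop ρ ∧ IsPullback j ((over' h W).ι ≫ h) (ρ ≫ W.ι) U.ι

variable {W : X.Opens}

/-- The canonical extension. -/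
abbrev obj' (W : X.Opens) : Scheme.{u} := Spec Γ((over' h W).toScheme, ⊤)

/-- The structure map of the canonical extension. -/
def str (hW : IsAffineOpen W) : obj' h W ⟶ W.toScheme :=
  haveI : IsAffine W.toScheme := hW
  Spec.map ((h ≫ U.ι) ∣_ W).appTop ≫ W.toScheme.isoSpec.inv

/-- The range of the map to an extension. -/
theorem opensRange_of_isPullback {Z P : Scheme.{u}} {j : P ⟶ Z} [IsOpenImmersion j] {t : Z ⟶ X}
    {k : P ⟶ U.toScheme} (sq : IsPullback j k t U.ι) : j.opensRange = t ⁻¹ᵁ U := by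
  ext z
  constructor
  · rintro ⟨y, rfl⟩
    show t (j y) ∈ U
    rw [← Scheme.Hom.comp_apply, sq.w, Scheme.Hom.comp_apply]
    exact (k y).2
  · intro hz
    obtain ⟨y, hy, -⟩ := Scheme.exists_preimage_of_isPullback sq z ⟨t z, hz⟩ rfl
    exact ⟨y, hy⟩

theorem key (hgood : ∀ x : X, ∃ V, x ∈ V ∧ GoodFor U V) (hW : IsAffineOpen W) {Z : Scheme.{u}}
    (ρ : Z ⟶ W.toScheme) (j : (over' h W).toScheme ⟶ Z) (hρ : FEt.prop ρ)
    (sq : IsPullback j ((over' h W).ι ≫ h) (ρ ≫ W.ι) U.ι) :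
    IsIso j.appTop ∧ ∃ θ : obj' h W ≅ Z, θ.hom ≫ ρ = str h hW ∧ (over' h W).toScheme.toSpecΓ ≫ θ.hom = j := by
  haveI : IsAffine W.toScheme := hW
  haveI : IsFinite ρ := hρ.1
  haveI : Etale ρ := hρ.2
  haveI : IsAffine Z := isAffine_of_isAffineHom ρ
  haveI : IsOpenImmersion j := MorphismProperty.of_isPullback (P := @IsOpenImmersion) sq.flip inferInstance
  have hj : IsIso j.appTop := by
    rw [ConcreteCategory.isIso_iff_bijective]
    refine bijective_appTop_of_good j fun z => ?_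
    obtain ⟨V, hzV, hV⟩ := hgood (W.ι (ρ z))
    obtain ⟨c, hc, hzc⟩ := hV.1.exists_basicOpen_le (V := W) ⟨W.ι (ρ z), (ρ z).2⟩ hzV
    have h1 : GoodFor (W.ι ⁻¹ᵁ U) (W.ι ⁻¹ᵁ X.basicOpen c) :=
      (hV.basicOpen c).preimage_openImmersion W.ι (hc.trans (Scheme.Opens.opensRange_ι W).ge)
    refine ⟨ρ ⁻¹ᵁ W.ι ⁻¹ᵁ X.basicOpen c, hzc, ?_⟩
    rw [opensRange_of_isPullback sq, Scheme.Hom.comp_preimage]
    exact h1.preimage ρ
  refine ⟨hj, asIso (Spec.map j.appTop) ≪≫ Z.isoSpec.symm, ?_, ?_⟩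
  · have hj' : j ≫ ρ = (h ≫ U.ι) ∣_ W := by
      rw [← cancel_mono W.ι, morphismRestrict_ι, Category.assoc, sq.w, Category.assoc]
    show (Spec.map j.appTop ≫ Z.isoSpec.inv) ≫ ρ = Spec.map ((h ≫ U.ι) ∣_ W).appTop ≫ W.toScheme.isoSpec.inv
    rw [← hj', Scheme.Hom.comp_appTop, Spec.map_comp, Category.assoc, Category.assoc,
      Scheme.isoSpec_inv_naturality]
  · show (over' h W).toScheme.toSpecΓ ≫ Spec.map j.appTop ≫ Z.isoSpec.inv = j
    rw [← Scheme.toSpecΓ_naturality_assoc, Scheme.toSpecΓ_isoSpec_inv, Category.comp_id]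

variable {h}

/-- The canonical extension is an extension. -/
theorem HasExt.canonical (hgood : ∀ x : X, ∃ V, x ∈ V ∧ GoodFor U V) (hW : HasExt h W) :
    FEt.prop (str h hW.1) ∧
      IsPullback (over' h W).toScheme.toSpecΓ ((over' h W).ι ≫ h) (str h hW.1 ≫ W.ι) U.ι := by
  obtain ⟨hWa, Z, ρ, j, hρ, sq⟩ := hW
  obtain ⟨-, θ, hθρ, hθj⟩ := key h hgood hWa ρ j hρ sq
  refine ⟨?_, sq.of_iso (Iso.refl _) θ.symm (Iso.refl _) (Iso.refl _) ?_ ?_ ?_ ?_⟩
  · show FEt.prop (str h hWa)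
    rw [← hθρ, MorphismProperty.cancel_left_of_respectsIso FEt.prop.{u} θ.hom]
    exact hρ
  · simp [← hθj]
  · simp
  · show (ρ ≫ W.ι) ≫ 𝟙 _ = θ.inv ≫ str h hWa ≫ W.ι
    rw [← hθρ, Category.comp_id, Category.assoc, θ.inv_hom_id_assoc]
  · simp

/-- Restriction of an extension to a smaller affine open. -/
theorem exists_restrict {Z : Scheme.{u}} (ρ : Z ⟶ W.toScheme) (j : (over' h W).toScheme ⟶ Z)
    (hρ : FEt.prop ρ) (sq : IsPullback j ((over' h W).ι ≫ h) (ρ ≫ W.ι) U.ι) {W' : X.Opens} (hle : W' ≤ W) :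
    ∃ (j' : (over' h W').toScheme ⟶ pullback ρ (X.homOfLE hle)),
      FEt.prop (pullback.snd ρ (X.homOfLE hle)) ∧
      j' ≫ pullback.fst ρ (X.homOfLE hle) =
        E.homOfLE (Scheme.Hom.preimage_mono (h ≫ U.ι) hle) ≫ j ∧
      IsPullback j' ((over' h W').ι ≫ h) (pullback.snd ρ (X.homOfLE hle) ≫ W'.ι) U.ι := by
  haveI : IsOpenImmersion j := MorphismProperty.of_isPullback (P := @IsOpenImmersion) sq.flip inferInstance
  have hle' : over' h W' ≤ over' h W := Scheme.Hom.preimage_mono (h ≫ U.ι) hle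
  let j' : (over' h W').toScheme ⟶ pullback ρ (X.homOfLE hle) :=
    pullback.lift (E.homOfLE hle' ≫ j) ((h ≫ U.ι) ∣_ W') (by
      rw [← cancel_mono W.ι, Category.assoc, Category.assoc, Category.assoc, sq.w, Category.assoc,
        Scheme.homOfLE_ι_assoc, Scheme.homOfLE_ι, morphismRestrict_ι])
  have hj'1 : j' ≫ pullback.fst ρ (X.homOfLE hle) = E.homOfLE hle' ≫ j := pullback.lift_fst _ _ _
  have hj'2 : j' ≫ pullback.snd ρ (X.homOfLE hle) = (h ≫ U.ι) ∣_ W' := pullback.lift_snd _ _ _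
  haveI : IsOpenImmersion (j' ≫ pullback.fst ρ (X.homOfLE hle)) := by rw [hj'1]; infer_instance
  haveI : IsOpenImmersion j' := IsOpenImmersion.of_comp j' (pullback.fst ρ (X.homOfLE hle))
  refine ⟨j', MorphismProperty.pullback_snd _ _ hρ, hj'1, ?_⟩
  have hw : j' ≫ pullback.snd ρ (X.homOfLE hle) ≫ W'.ι = ((over' h W').ι ≫ h) ≫ U.ι := by
    rw [reassoc_of% hj'2, morphismRestrict_ι, Category.assoc]
  refine (IsOpenImmersion.isPullback _ _ _ _ hw ?_).flip
  rw [Scheme.Opens.opensRange_ι]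
  ext z
  constructor
  · intro hz
    have hz' : (ρ ≫ W.ι) (pullback.fst ρ (X.homOfLE hle) z) ∈ U := by
      rw [← Scheme.Hom.comp_apply, pullback.condition_assoc, Scheme.homOfLE_ι]
      exact hz
    rw [show ((ρ ≫ W.ι) (pullback.fst ρ (X.homOfLE hle) z) ∈ U) =
      (pullback.fst ρ (X.homOfLE hle) z ∈ (ρ ≫ W.ι) ⁻¹ᵁ U) from rfl, ← opensRange_of_isPullback sq] at hz'
    obtain ⟨y, hy⟩ := hz'
    have hyW : y.1 ∈ over' h W' := by
      show (h ≫ U.ι) y.1 ∈ W'
      have e : (h ≫ U.ι) y.1 = (ρ ≫ W.ι) (j y) := by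
        rw [← Scheme.Hom.comp_apply, sq.w]
        rfl
      rw [e, hy, ← Scheme.Hom.comp_apply, pullback.condition_assoc, Scheme.homOfLE_ι]
      exact (pullback.snd ρ (X.homOfLE hle) z).2
    refine ⟨⟨y.1, hyW⟩, (pullback.fst ρ (X.homOfLE hle)).isOpenEmbedding.injective ?_⟩
    rw [← Scheme.Hom.comp_apply, hj'1, Scheme.Hom.comp_apply, ← hy]
    congr 1
    exact (over' h W).ι.isOpenEmbedding.injective (by
      rw [← Scheme.Hom.comp_apply, Scheme.homOfLE_ι]; rfl)
  · rintro ⟨y, rfl⟩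
    show (pullback.snd ρ (X.homOfLE hle) ≫ W'.ι) (j' y) ∈ U
    rw [← Scheme.Hom.comp_apply, hw, Scheme.Hom.comp_apply]
    exact (((over' h W').ι ≫ h) y).2

theorem HasExt.mono {W' : X.Opens} (hW : HasExt h W) (hle : W' ≤ W) (hW' : IsAffineOpen W') : HasExt h W' := by
  obtain ⟨hWa, Z, ρ, j, hρ, sq⟩ := hW
  obtain ⟨j', h1, -, h3⟩ := exists_restrict ρ j hρ sq hle
  exact ⟨hW', _, _, j', h1, h3⟩

/-- Canonical extensions form pullback squares. -/
theorem isPullback_canonical (hgood : ∀ x : X, ∃ V, x ∈ V ∧ GoodFor U V) {W' : X.Opens} (hW : HasExt h W)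
    (hW' : HasExt h W') (hle : W' ≤ W) :
    IsPullback (Spec.map (E.homOfLE (Scheme.Hom.preimage_mono (h ≫ U.ι) hle)).appTop) (str h hW'.1)
      (str h hW.1) (X.homOfLE hle) := by
  haveI : IsAffine W'.toScheme := hW'.1
  obtain ⟨hρ, sq⟩ := hW.canonical hgood
  obtain ⟨j', h1, h2, h3⟩ := exists_restrict (str h hW.1) _ hρ sq hle
  obtain ⟨hiso, θ, hθρ, hθj⟩ := key h hgood hW'.1 _ j' h1 h3
  haveI := hiso
  haveI : IsFinite (pullback.snd (str h hW.1) (X.homOfLE hle)) := h1.1
  haveI : IsAffine (pullback (str h hW.1) (X.homOfLE hle)) :=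
    isAffine_of_isAffineHom (pullback.snd (str h hW.1) (X.homOfLE hle))
  have hfst : θ.hom ≫ pullback.fst (str h hW.1) (X.homOfLE hle) =
      Spec.map (E.homOfLE (Scheme.Hom.preimage_mono (h ≫ U.ι) hle)).appTop := by
    rw [← cancel_epi θ.inv, θ.inv_hom_id_assoc]
    refine ext_of_isAffine ((cancel_mono j'.appTop).1 ?_)
    rw [← Scheme.Hom.comp_appTop, ← Scheme.Hom.comp_appTop, h2]
    congr 1
    rw [← hθj]
    simp [Scheme.toSpecΓ_naturality]
  exact (IsPullback.of_hasPullback (str h hW.1) (X.homOfLE hle)).of_iso θ.symm (Iso.refl _) (Iso.refl _)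
    (Iso.refl _)
    (by simp only [Iso.refl_hom, Iso.symm_hom, Category.comp_id, Category.id_comp]; rw [← hfst, Iso.inv_hom_id_assoc])
    (by simp only [Iso.refl_hom, Iso.symm_hom, Category.comp_id, Category.id_comp]; rw [← hθρ, Iso.inv_hom_id_assoc])
    (by simp) (by simp)

variable (h)

/-- Index of the cover by opens with an extension. -/
abbrev Idx : Type u := {W : X.Opens // HasExt h W}

theorem isBasis_idx (hloc : ∀ x : X, ∃ V, x ∈ V ∧ HasExt h V) :
    TopologicalSpace.Opens.IsBasis (Set.range fun W : Idx h => W.1) := by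
  rw [TopologicalSpace.Opens.isBasis_iff_nbhd]
  intro O x hx
  obtain ⟨V, hxV, hV⟩ := hloc x
  obtain ⟨c, hc, hxc⟩ := hV.1.exists_basicOpen_le (V := O) ⟨x, hx⟩ hxV
  exact ⟨X.basicOpen c, ⟨⟨_, hV.mono (X.basicOpen_le c) (hV.1.basicOpen c)⟩, rfl⟩, hxc, hc⟩

/-- The cover by opens with an extension. -/
@[simps I₀ X f]
def extCover (hloc : ∀ x : X, ∃ V, x ∈ V ∧ HasExt h V) : X.OpenCover where
  I₀ := Idx h
  X W := W.1.toScheme
  f W := W.1.ι
  mem₀ := by
    rw [Scheme.presieve₀_mem_precoverage_iff]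
    refine ⟨fun x => ?_, inferInstance⟩
    obtain ⟨V, hxV, hV⟩ := hloc x
    exact ⟨⟨V, hV⟩, by simpa using hxV⟩

instance (hloc : ∀ x : X, ∃ V, x ∈ V ∧ HasExt h V) : Preorder (extCover h hloc).I₀ :=
  inferInstanceAs (Preorder (Idx h))

set_option backward.isDefEq.respectTransparency.types false in
instance (hloc : ∀ x : X, ∃ V, x ∈ V ∧ HasExt h V) : Scheme.Cover.LocallyDirected (extCover h hloc) :=
  .ofIsBasisOpensRange (fun {i j} => by simp only [extCover_f, Scheme.Opens.opensRange_ι]; rfl) <| by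
    have := isBasis_idx h hloc
    convert! this
    simp

theorem trans_extCover (hloc : ∀ x : X, ∃ V, x ∈ V ∧ HasExt h V) {i j : (extCover h hloc).I₀} (a : i ⟶ j) :
    (extCover h hloc).trans a = X.homOfLE (leOfHom a : i.1 ≤ j.1) := by
  show (extCover h hloc).trans a = (_ : i.1.toScheme ⟶ j.1.toScheme)
  rw [← cancel_mono j.1.ι, Scheme.homOfLE_ι]
  exact Scheme.Cover.trans_map (extCover h hloc) a

/-- The gluing datum of the canonical extensions. -/
def extData (hgood : ∀ x : X, ∃ V, x ∈ V ∧ GoodFor U V) (hloc : ∀ x : X, ∃ V, x ∈ V ∧ HasExt h V) :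
    (extCover h hloc).RelativeGluingData where
  functor :=
    { obj := fun W => obj' h W.1
      map := fun {W W'} a => Spec.map (E.homOfLE (Scheme.Hom.preimage_mono (h ≫ U.ι) (leOfHom a : W.1 ≤ W'.1))).appTop
      map_id := fun W => by
        rw [Scheme.homOfLE_rfl, Scheme.Hom.id_appTop, Spec.map_id]
      map_comp := fun {W W' W''} a b => by
        rw [← Spec.map_comp, ← Scheme.Hom.comp_appTop, Scheme.homOfLE_homOfLE] }
  natTrans :=
    { app := fun W => str h W.2.1
      naturality := fun W W' a => by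
        show _ = str h W.2.1 ≫ (extCover h hloc).trans a
        rw [trans_extCover]
        exact (isPullback_canonical hgood W'.2 W.2 _).w }
  equifibered := fun {W W'} a => by
    show IsPullback (Spec.map _) (str h W.2.1) (str h W'.2.1) ((extCover h hloc).trans a)
    rw [trans_extCover]
    exact isPullback_canonical hgood W'.2 W.2 _

/-- Covers of `U` extend when they extend locally. -/
theorem exists_extension (hgood : ∀ x : X, ∃ V, x ∈ V ∧ GoodFor U V)
    (hloc : ∀ x : X, ∃ V, x ∈ V ∧ HasExt h V) :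
    ∃ (G : Scheme.{u}) (ρ : G ⟶ X) (j : E ⟶ G), FEt.prop ρ ∧ IsPullback j h ρ U.ι := by
  let d := extData h hgood hloc
  let 𝒰 := extCover h hloc
  let g := h ≫ U.ι
  have sqι : ∀ W : Idx h, IsPullback (str h W.2.1) (colimit.ι d.functor W) W.1.ι d.toBase := fun W =>
    d.isPullback_natTrans_ι_toBase W
  have hfin : IsFinite d.toBase := IsZariskiLocalAtTarget.of_openCover 𝒰 fun W => by
    have hp := ((W.2.canonical hgood).1).1
    have e := (sqι W).flip.isoPullback_hom_snd
    rw [← MorphismProperty.cancel_left_of_respectsIso @IsFinite (sqι W).flip.isoPullback.hom]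
    erw [e]
    exact hp
  have het : Etale d.toBase := IsZariskiLocalAtTarget.of_openCover 𝒰 fun W => by
    have hp := ((W.2.canonical hgood).1).2
    have e := (sqι W).flip.isoPullback_hom_snd
    rw [← MorphismProperty.cancel_left_of_respectsIso @Etale (sqι W).flip.isoPullback.hom]
    erw [e]
    exact hp
  let m : ∀ W : Idx h, (over' h W.1).toScheme ⟶ d.glued := fun W =>
    (over' h W.1).toScheme.toSpecΓ ≫ colimit.ι d.functor W
  have hm : ∀ {W W' : Idx h} (a : W ⟶ W'),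
      E.homOfLE (Scheme.Hom.preimage_mono (h ≫ U.ι) (leOfHom a : W.1 ≤ W'.1)) ≫ m W' = m W := by
    intro W W' a
    simp only [m]
    rw [Scheme.toSpecΓ_naturality_assoc]
    exact congrArg ((over' h W.1).toScheme.toSpecΓ ≫ ·) (colimit.w d.functor a)
  let jG : E ⟶ d.glued := Scheme.OpenCover.glueMorphismsOfLocallyDirected (𝒰.pullback₁ g)
    (fun W => (pullbackRestrictIsoRestrict g W.1).hom ≫ m W) fun {W W'} a => by
      have e : Scheme.Cover.trans (𝒰.pullback₁ g) a ≫ (pullbackRestrictIsoRestrict g W'.1).hom =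
          (pullbackRestrictIsoRestrict g W.1).hom ≫
            E.homOfLE (Scheme.Hom.preimage_mono (h ≫ U.ι) (leOfHom a : W.1 ≤ W'.1)) := by
        rw [← cancel_mono (over' h W'.1).ι, Category.assoc, Category.assoc, Scheme.homOfLE_ι,
          pullbackRestrictIsoRestrict_hom_ι, pullbackRestrictIsoRestrict_hom_ι]
        exact (pullback.lift_fst _ _ _).trans (Category.comp_id _)
      rw [← hm a]
      exact ((Category.assoc _ _ _).symm.trans (congrArg (· ≫ m W') e)).trans (Category.assoc _ _ _)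
  have hjG : ∀ W : Idx h, (over' h W.1).ι ≫ jG = m W := fun W => by
    rw [← cancel_epi (pullbackRestrictIsoRestrict g W.1).hom, pullbackRestrictIsoRestrict_hom_ι_assoc]
    exact Scheme.OpenCover.map_glueMorphismsOfLocallyDirected (𝒰.pullback₁ g) _ _ W
  have hτ : ∀ W : Idx h, (over' h W.1).toScheme.toSpecΓ ≫ str h W.2.1 = g ∣_ W.1 := fun W => by
    rw [← cancel_mono W.1.ι, morphismRestrict_ι, Category.assoc, (W.2.canonical hgood).2.w, Category.assoc]
  have hw : jG ≫ d.toBase = h ≫ U.ι := by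
    refine Scheme.Cover.hom_ext (𝒰.pullback₁ g) _ _ fun W => ?_
    show pullback.fst g W.1.ι ≫ jG ≫ d.toBase = pullback.fst g W.1.ι ≫ g
    have hA : (over' h W.1).ι ≫ jG ≫ d.toBase = (over' h W.1).ι ≫ g := by
      rw [reassoc_of% (hjG W)]
      show ((over' h W.1).toScheme.toSpecΓ ≫ colimit.ι d.functor W) ≫ d.toBase = _
      rw [Category.assoc, ← (sqι W).w, reassoc_of% (hτ W), morphismRestrict_ι]
    rw [← pullbackRestrictIsoRestrict_hom_ι g W.1, Category.assoc, Category.assoc]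
    exact congrArg ((pullbackRestrictIsoRestrict g W.1).hom ≫ ·) hA
  have sqj : ∀ W : Idx h, IsPullback (over' h W.1).ι (over' h W.1).toScheme.toSpecΓ jG (colimit.ι d.functor W) :=
    fun W => by
      refine IsPullback.of_bot ?_ (hjG W) (sqι W).flip
      rw [hτ W, hw]
      exact (isPullback_morphismRestrict g W.1).flip
  haveI : IsOpenImmersion jG := by
    refine IsZariskiLocalAtTarget.of_openCover d.cover fun W => ?_
    haveI : IsOpenImmersion (over' h W.1).toScheme.toSpecΓ :=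
      MorphismProperty.of_isPullback (P := @IsOpenImmersion) (W.2.canonical hgood).2.flip inferInstance
    have e := (sqj W).isoPullback_hom_snd
    rw [← MorphismProperty.cancel_left_of_respectsIso @IsOpenImmersion (sqj W).isoPullback.hom]
    erw [e]
    infer_instance
  refine ⟨d.glued, d.toBase, jG, ⟨hfin, het⟩, (IsOpenImmersion.isPullback h jG U.ι d.toBase hw ?_).flip⟩
  rw [Scheme.Opens.opensRange_ι]
  ext z
  constructor
  · intro hz
    obtain ⟨W, y, rfl⟩ := d.cover.exists_eq z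
    haveI : IsOpenImmersion (over' h W.1).toScheme.toSpecΓ :=
      MorphismProperty.of_isPullback (P := @IsOpenImmersion) (W.2.canonical hgood).2.flip inferInstance
    have hy : y ∈ (str h W.2.1 ≫ W.1.ι) ⁻¹ᵁ U := by
      show (str h W.2.1 ≫ W.1.ι) y ∈ U
      rw [(sqι W).w, Scheme.Hom.comp_apply]
      exact hz
    rw [← opensRange_of_isPullback (W.2.canonical hgood).2] at hy
    obtain ⟨t, rfl⟩ := hy
    refine ⟨(over' h W.1).ι t, ?_⟩
    rw [← Scheme.Hom.comp_apply, hjG]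
    rfl
  · rintro ⟨y, rfl⟩
    show d.toBase (jG y) ∈ U
    rw [← Scheme.Hom.comp_apply, hw]
    exact (h y).2

end

end Groth.Agent.PurFib
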