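import Groth.Agent.PurFib.Fibre
import Groth.Agent.Purity.SectionsFF

/-!
# Hartogs across a regular pair, for arbitrary schemes and opens
-/

set_option autoImplicit false
set_option backward.isDefEq.respectTransparency false
set_option linter.style.haveILetI false

universe u

open AlgebraicGeometry CategoryTheory TopologicalSpace Limits Opposite
open Groth.Agent.Purity (TwoWith)

namespace Groth.Agent.PurFib

variable {X : Scheme.{u}}

/-- An affine open with a regular pair cutting out something containing the complement of `U`. -/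
def GoodFor (U V : X.Opens) : Prop :=
  IsAffineOpen V ∧ ∃ a b : Γ(X, V), X.basicOpen a ≤ U ∧ X.basicOpen b ≤ U ∧ TwoWith a b Γ(X, V)

theorem GoodFor.basicOpen {U V : X.Opens} (h : GoodFor U V) (c : Γ(X, V)) : GoodFor U (X.basicOpen c) := by
  obtain ⟨hV, a, b, ha, hb, hab⟩ := h
  haveI := hV.isLocalization_basicOpen c
  haveI : Module.Flat Γ(X, V) Γ(X, X.basicOpen c) := IsLocalization.flat _ (Submonoid.powers c)
  refine ⟨hV.basicOpen c, algebraMap _ _ a, algebraMap _ _ b, ?_, ?_, two_algebraMap_of_flat hab⟩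
  · exact (X.basicOpen_res a (homOfLE (X.basicOpen_le c)).op).trans_le (inf_le_right.trans ha)
  · exact (X.basicOpen_res b (homOfLE (X.basicOpen_le c)).op).trans_le (inf_le_right.trans hb)

theorem res_res {O O' O'' : X.Opens} (h : O'' ≤ O') (h' : O' ≤ O) (z : Γ(X, O)) :
    X.presheaf.map (homOfLE h).op (X.presheaf.map (homOfLE h').op z) =
      X.presheaf.map (homOfLE (h.trans h')).op z := by
  rw [← ConcreteCategory.comp_apply, ← Functor.map_comp, ← op_comp, homOfLE_comp]

/-- Sections vanish when they vanish off the zeros of a regular element. -/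
theorem eq_zero_of_res {W T : X.Opens} (hW : IsAffineOpen W) {a : Γ(X, W)} (ha : ∀ m, a * m = 0 → m = 0)
    (hT : T ≤ W) (d : Γ(X, T))
    (hd : X.presheaf.map (homOfLE (inf_le_left : T ⊓ X.basicOpen a ≤ T)).op d = 0) : d = 0 := by
  let ι := {c : Γ(X, W) // X.basicOpen c ≤ T}
  refine TopCat.Sheaf.eq_of_locally_eq' X.sheaf (fun c : ι => X.basicOpen c.1) T (fun c => homOfLE c.2) ?_ d 0
    fun c => ?_
  · intro y hy
    obtain ⟨c, hc, hyc⟩ := hW.exists_basicOpen_le ⟨y, hy⟩ (hT hy)
    exact Opens.mem_iSup.2 ⟨⟨c, hc⟩, hyc⟩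
  rw [map_zero]
  obtain ⟨c, hc⟩ := c
  show X.presheaf.map (homOfLE hc).op d = 0
  haveI := hW.isLocalization_basicOpen c
  haveI : Module.Flat Γ(X, W) Γ(X, X.basicOpen c) := IsLocalization.flat _ (Submonoid.powers c)
  set x := X.presheaf.map (homOfLE hc).op d with hxdef
  set a' : Γ(X, X.basicOpen c) := algebraMap _ _ a
  haveI := (hW.basicOpen c).isLocalization_basicOpen a'
  have hle : X.basicOpen a' ≤ T ⊓ X.basicOpen a :=
    le_inf ((X.basicOpen_le a').trans hc)
      ((X.basicOpen_res a (homOfLE (X.basicOpen_le c)).op).trans_le inf_le_right)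
  have h0 : algebraMap Γ(X, X.basicOpen c) Γ(X, X.basicOpen a') x = 0 := by
    have := congrArg (X.presheaf.map (homOfLE hle).op) hd
    rw [map_zero, res_res] at this
    show X.presheaf.map _ (X.presheaf.map (homOfLE hc).op d) = 0
    rw [res_res]
    exact this
  obtain ⟨⟨_, k, rfl⟩, hk⟩ := (IsLocalization.map_eq_zero_iff (Submonoid.powers a') _ x).1 h0
  have hinj : ∀ m : Γ(X, X.basicOpen c), a' * m = 0 → m = 0 := fun m hm =>
    (two_algebraMap_of_flat (T := Γ(X, X.basicOpen c))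
      (⟨ha, fun m n hmn => ⟨n, by rw [one_smul] at hmn; exact hmn⟩⟩ : TwoWith a 1 Γ(X, W))).inj m hm
  clear h0
  induction k with
  | zero => simpa using hk
  | succ k ih => exact ih (hinj _ (by rw [← mul_assoc, ← pow_succ']; exact hk))

/-- The restriction from a good affine open is surjective. -/
theorem surjective_res_good {U W : X.Opens} (h : GoodFor U W) (s : Γ(X, W ⊓ U)) :
    ∃ t : Γ(X, W), X.presheaf.map (homOfLE (inf_le_left : W ⊓ U ≤ W)).op t = s := by
  obtain ⟨hW, a, b, haU, hbU, hab⟩ := h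
  have hainj : ∀ m, a * m = 0 → m = 0 := fun m hm => hab.inj m hm
  haveI := hW.isLocalization_basicOpen a
  haveI := hW.isLocalization_basicOpen b
  haveI := hW.isLocalization_basicOpen (a * b)
  have hea : X.basicOpen a ≤ W ⊓ U := le_inf (X.basicOpen_le a) haU
  have heb : X.basicOpen b ≤ W ⊓ U := le_inf (X.basicOpen_le b) hbU
  obtain ⟨⟨m, _, k, rfl⟩, hm⟩ := IsLocalization.surj (Submonoid.powers a) (X.presheaf.map (homOfLE hea).op s)
  obtain ⟨⟨n, _, l, rfl⟩, hn⟩ := IsLocalization.surj (Submonoid.powers b) (X.presheaf.map (homOfLE heb).op s)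
  have hpa : X.basicOpen (a * b) ≤ X.basicOpen a := (X.basicOpen_mul a b).trans_le inf_le_left
  have hpb : X.basicOpen (a * b) ≤ X.basicOpen b := (X.basicOpen_mul a b).trans_le inf_le_right
  have hres : ∀ (O : X.Opens) (hO : O ≤ W) (hp : X.basicOpen (a * b) ≤ O) (r : Γ(X, W)),
      X.presheaf.map (homOfLE hp).op (X.presheaf.map (homOfLE hO).op r) =
        algebraMap Γ(X, W) Γ(X, X.basicOpen (a * b)) r := fun O hO hp r => res_res hp hO r
  set σ := X.presheaf.map (homOfLE (hpa.trans hea)).op s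
  have h1 : σ * algebraMap _ _ (a ^ k) = algebraMap Γ(X, W) Γ(X, X.basicOpen (a * b)) m := by
    have := congrArg (X.presheaf.map (homOfLE hpa).op) hm
    rw [map_mul, res_res] at this
    rw [← hres _ (X.basicOpen_le a) hpa, ← hres _ (X.basicOpen_le a) hpa]
    exact this
  have h2 : σ * algebraMap _ _ (b ^ l) = algebraMap Γ(X, W) Γ(X, X.basicOpen (a * b)) n := by
    have := congrArg (X.presheaf.map (homOfLE hpb).op) hn
    rw [map_mul, res_res] at this
    rw [← hres _ (X.basicOpen_le b) hpb, ← hres _ (X.basicOpen_le b) hpb]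
    exact this
  obtain ⟨⟨_, N, rfl⟩, hN⟩ := (IsLocalization.map_eq_zero_iff (Submonoid.powers (a * b))
    Γ(X, X.basicOpen (a * b)) (b ^ l * m - a ^ k * n)).1 (by
      rw [map_sub, map_mul, map_mul, ← h1, ← h2]; ring)
  have hN' : b ^ (N + l) • m = a ^ k • (b ^ N * n) := by
    have h3 : b ^ N * (b ^ l * m - a ^ k * n) = 0 := hab.inj_pow N (by
      rw [smul_eq_mul, ← mul_assoc, ← mul_pow]; exact hN)
    rw [smul_eq_mul, smul_eq_mul, pow_add]
    linear_combination h3
  obtain ⟨z, hz⟩ := hab.cancel_pow k (N + l) m _ hN'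
  have hza : X.presheaf.map (homOfLE (X.basicOpen_le a)).op z = X.presheaf.map (homOfLE hea).op s := by
    refine (IsLocalization.map_units Γ(X, X.basicOpen a) (⟨a ^ k, k, rfl⟩ : Submonoid.powers a)).mul_left_injective ?_
    show algebraMap Γ(X, W) Γ(X, X.basicOpen a) z * algebraMap _ _ (a ^ k) = _ * algebraMap _ _ (a ^ k)
    rw [hm, ← map_mul, hz, smul_eq_mul, mul_comm]
  refine ⟨z, sub_eq_zero.1 (eq_zero_of_res hW hainj inf_le_left _ ?_)⟩
  rw [map_sub, sub_eq_zero, res_res]
  have hle : (W ⊓ U) ⊓ X.basicOpen a ≤ X.basicOpen a := inf_le_right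
  have := congrArg (X.presheaf.map (homOfLE hle).op) hza
  rw [res_res, res_res] at this
  exact this

/-- The restriction from a good affine open is injective. -/
theorem injective_res_good {U W : X.Opens} (h : GoodFor U W) (t t' : Γ(X, W))
    (he : X.presheaf.map (homOfLE (inf_le_left : W ⊓ U ≤ W)).op t =
      X.presheaf.map (homOfLE (inf_le_left : W ⊓ U ≤ W)).op t') : t = t' := by
  obtain ⟨hW, a, b, haU, hbU, hab⟩ := h
  refine sub_eq_zero.1 (eq_zero_of_res hW (fun m hm => hab.inj m hm) le_rfl _ ?_)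
  rw [map_sub, sub_eq_zero]
  have hle : W ⊓ X.basicOpen a ≤ W ⊓ U := inf_le_inf_left _ haU
  have := congrArg (X.presheaf.map (homOfLE hle).op) he
  rw [res_res, res_res] at this
  exact this

/-- Hartogs: sections extend uniquely across the complement of `U`. -/
theorem bijective_res {U : X.Opens} (hgood : ∀ x : X, ∃ V, x ∈ V ∧ GoodFor U V) (T : X.Opens) :
    Function.Bijective (X.presheaf.map (homOfLE (inf_le_left : T ⊓ U ≤ T)).op) := by
  let ι := {W : X.Opens // W ≤ T ∧ GoodFor U W}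
  have hcov : T ≤ iSup fun W : ι => W.1 := by
    intro x hx
    obtain ⟨V, hxV, hV⟩ := hgood x
    obtain ⟨c, hc, hxc⟩ := hV.1.exists_basicOpen_le (V := T) ⟨x, hx⟩ hxV
    exact Opens.mem_iSup.2 ⟨⟨X.basicOpen c, hc, hV.basicOpen c⟩, hxc⟩
  constructor
  · intro t t' he
    refine TopCat.Sheaf.eq_of_locally_eq' X.sheaf (fun W : ι => W.1) T (fun W => homOfLE W.2.1) hcov t t' fun W => ?_
    show X.presheaf.map (homOfLE W.2.1).op t = X.presheaf.map (homOfLE W.2.1).op t'
    refine injective_res_good W.2.2 _ _ ?_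
    have hle : W.1 ⊓ U ≤ T ⊓ U := inf_le_inf_right _ W.2.1
    have := congrArg (X.presheaf.map (homOfLE hle).op) he
    rw [res_res, res_res] at this ⊢
    exact this
  · intro s
    choose t ht using fun W : ι => surjective_res_good W.2.2
      (X.presheaf.map (homOfLE (inf_le_inf_right U W.2.1)).op s)
    have hloc : ∀ (O : X.Opens) (p q : Γ(X, O)), X.presheaf.map (homOfLE (inf_le_left : O ⊓ U ≤ O)).op p =
        X.presheaf.map (homOfLE (inf_le_left : O ⊓ U ≤ O)).op q → p = q := by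
      intro O p q hpq
      let κ := {W : X.Opens // W ≤ O ∧ GoodFor U W}
      refine TopCat.Sheaf.eq_of_locally_eq' X.sheaf (fun W : κ => W.1) O (fun W => homOfLE W.2.1) ?_ p q fun W => ?_
      · intro x hx
        obtain ⟨V, hxV, hV⟩ := hgood x
        obtain ⟨c, hc, hxc⟩ := hV.1.exists_basicOpen_le (V := O) ⟨x, hx⟩ hxV
        exact Opens.mem_iSup.2 ⟨⟨X.basicOpen c, hc, hV.basicOpen c⟩, hxc⟩
      show X.presheaf.map (homOfLE W.2.1).op p = X.presheaf.map (homOfLE W.2.1).op q
      refine injective_res_good W.2.2 _ _ ?_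
      have hle : W.1 ⊓ U ≤ O ⊓ U := inf_le_inf_right _ W.2.1
      have := congrArg (X.presheaf.map (homOfLE hle).op) hpq
      rw [res_res, res_res] at this ⊢
      exact this
    obtain ⟨g, hg, -⟩ := TopCat.Sheaf.existsUnique_gluing' X.sheaf (fun W : ι => W.1) T
      (fun W => homOfLE W.2.1) hcov t (fun i j => by
        show X.presheaf.map (homOfLE inf_le_left).op (t i) = X.presheaf.map (homOfLE inf_le_right).op (t j)
        refine hloc _ _ _ ?_
        have hi := congrArg (X.presheaf.map (homOfLE (show (i.1 ⊓ j.1) ⊓ U ≤ i.1 ⊓ U from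
          inf_le_inf_right _ inf_le_left)).op) (ht i)
        have hj := congrArg (X.presheaf.map (homOfLE (show (i.1 ⊓ j.1) ⊓ U ≤ j.1 ⊓ U from
          inf_le_inf_right _ inf_le_right)).op) (ht j)
        rw [res_res, res_res] at hi hj
        rw [res_res, res_res]
        exact hi.trans hj.symm)
    refine ⟨(show Γ(X, T) from g), TopCat.Sheaf.eq_of_locally_eq' X.sheaf (fun W : ι => W.1 ⊓ U) (T ⊓ U)
      (fun W => homOfLE (inf_le_inf_right _ W.2.1)) (fun x hx => ?_) _ _ fun W => ?_⟩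
    · obtain ⟨W, hW⟩ := Opens.mem_iSup.1 (hcov hx.1)
      exact Opens.mem_iSup.2 ⟨W, hW, hx.2⟩
    show X.presheaf.map _ (X.presheaf.map _ (show Γ(X, T) from g)) = X.presheaf.map _ s
    rw [res_res]
    have := congrArg (X.presheaf.map (homOfLE (inf_le_left : W.1 ⊓ U ≤ W.1)).op)
      (show X.presheaf.map (homOfLE W.2.1).op (show Γ(X, T) from g) = t W from hg W)
    rw [res_res, ht W] at this
    exact this

/-- Goodness pulls back along finite étale morphisms. -/
theorem GoodFor.preimage {E : Scheme.{u}} (π : E ⟶ X) [IsFinite π] [Etale π] {U V : X.Opens} (h : GoodFor U V) :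
    GoodFor (π ⁻¹ᵁ U) (π ⁻¹ᵁ V) := by
  obtain ⟨hV, a, b, haU, hbU, hab⟩ := h
  refine ⟨hV.preimage π, π.app V a, π.app V b, ?_, ?_, ?_⟩
  · exact (Scheme.preimage_basicOpen π a).symm.trans_le (Scheme.Hom.preimage_mono π haU)
  · exact (Scheme.preimage_basicOpen π b).symm.trans_le (Scheme.Hom.preimage_mono π hbU)
  letI := (π.app V).hom.toAlgebra
  haveI : Algebra.Etale Γ(X, V) Γ(E, π ⁻¹ᵁ V) := by
    have := π.etale_appLE hV (hV.preimage π) le_rfl
    rw [← π.app_eq_appLE] at this
    exact this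
  exact two_algebraMap_of_flat (T := Γ(E, π ⁻¹ᵁ V)) hab

/-- Restriction of finite étale covers is fully faithful. -/
theorem restrict_full_faithful_of_good (U : X.Opens) (hgood : ∀ x : X, ∃ V, x ∈ V ∧ GoodFor U V) :
    (FEt.restrict U.ι).Full ∧ (FEt.restrict U.ι).Faithful := by
  refine Purity.restrict_full_faithful_of_sections U.ι fun E π hf he V hV => ?_
  set j := pullback.fst π U.ι
  set T := π ⁻¹ᵁ V
  have hrange : j.opensRange = π ⁻¹ᵁ U := by
    rw [show j.opensRange = π ⁻¹ᵁ U.ι.opensRange from Scheme.Hom.opensRange_pullbackFst U.ι π,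
      Scheme.Opens.opensRange_ι]
  have hgoodE : ∀ y : E, ∃ W, y ∈ W ∧ GoodFor (π ⁻¹ᵁ U) W := fun y => by
    obtain ⟨V, hyV, hV⟩ := hgood (π y)
    exact ⟨π ⁻¹ᵁ V, hyV, hV.preimage π⟩
  haveI : IsIso (j.app (T ⊓ π ⁻¹ᵁ U)) := Scheme.Hom.isIso_app j _ (inf_le_right.trans hrange.ge)
  have hpre : j ⁻¹ᵁ T ≤ j ⁻¹ᵁ (T ⊓ π ⁻¹ᵁ U) := fun y hy => ⟨hy, hrange.le ⟨y, rfl⟩⟩
  have key : ∀ s, j.app T s = (pullback π U.ι).presheaf.map (homOfLE hpre).op
      (j.app (T ⊓ π ⁻¹ᵁ U) (E.presheaf.map (homOfLE (inf_le_left : T ⊓ π ⁻¹ᵁ U ≤ T)).op s)) := by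
    intro s
    rw [← ConcreteCategory.comp_apply, ← ConcreteCategory.comp_apply, Scheme.Hom.naturality_assoc,
      ← Functor.map_comp, Subsingleton.elim (((Opens.map j.base).map _).op ≫ _) (𝟙 (op (j ⁻¹ᵁ T))),
      CategoryTheory.Functor.map_id, Category.comp_id]
  haveI : IsIso (homOfLE hpre) := by
    refine ⟨homOfLE (fun y hy => hy.1), ?_, ?_⟩ <;> exact Subsingleton.elim _ _
  have h1 := bijective_res hgoodE T
  have h2 := ConcreteCategory.bijective_of_isIso (j.app (T ⊓ π ⁻¹ᵁ U))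
  have h3 := ConcreteCategory.bijective_of_isIso ((pullback π U.ι).presheaf.map (homOfLE hpre).op)
  rw [show ⇑(j.app T) = fun s => (pullback π U.ι).presheaf.map (homOfLE hpre).op
      (j.app (T ⊓ π ⁻¹ᵁ U) (E.presheaf.map (homOfLE (inf_le_left : T ⊓ π ⁻¹ᵁ U ≤ T)).op s)) from funext key]
  exact h3.comp (h2.comp h1)

end Groth.Agent.PurFib
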