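import Groth.Agent.PurFib.Noeth
import Groth.Agent.FEtLim.Descend
import Groth.Agent.LimModel.FgSubalgebra
import Groth.Agent.LimDesc.Tower
import Groth.Agent.CInt.CILocus
import Groth.Agent.LefEssSurj.PurStep
import Mathlib.RingTheory.Smooth.NoetherianDescent

/-!
# Extension of finite étale covers across a fibrewise regular pair, over any base
-/

set_option autoImplicit false
set_option maxHeartbeats 1000000
set_option backward.isDefEq.respectTransparency false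
set_option linter.style.haveILetI false

universe u

open CategoryTheory AlgebraicGeometry IsLocalRing Limits TensorProduct Opposite
open Groth.Agent.Purity (TwoWith)

namespace Groth.Agent.PurFib

/-- Fibre local rings of affine schemes. -/
theorem ringKrullDim_fiber_Spec {R A : Type u} [CommRing R] [CommRing A] [Algebra R A] (q : PrimeSpectrum A) :
    ringKrullDim (((Spec.map (CommRingCat.ofHom (algebraMap R A))).fiber
        ((Spec.map (CommRingCat.ofHom (algebraMap R A))) q)).presheaf.stalk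
      ((Spec.map (CommRingCat.ofHom (algebraMap R A))).asFiber q)) =
      ringKrullDim (Localization.AtPrime q.asIdeal ⧸
        (q.asIdeal.comap (algebraMap R A)).map (algebraMap R (Localization.AtPrime q.asIdeal))) := by
  obtain ⟨E⟩ := CMFlat.nonempty_fiberStalk_equiv (Spec.map (CommRingCat.ofHom (algebraMap R A))) q
  rw [← ringKrullDim_eq_of_ringEquiv E]
  let i := Scheme.arrowStalkMapSpecIso (CommRingCat.ofHom (algebraMap R A)) q
  obtain ⟨E'⟩ := CInt.quot_equiv_of_equiv ((Spec.map (CommRingCat.ofHom (algebraMap R A))).stalkMap q).hom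
    (Localization.localRingHom (q.asIdeal.comap (algebraMap R A)) q.asIdeal (algebraMap R A) rfl)
    (Iso.commRingCatIsoToRingEquiv (Arrow.leftFunc.mapIso i) :
      (Spec (CommRingCat.of R)).presheaf.stalk (Spec.map (CommRingCat.ofHom (algebraMap R A)) q) ≃+*
        Localization.AtPrime (q.asIdeal.comap (algebraMap R A)))
    (Iso.commRingCatIsoToRingEquiv (Arrow.rightFunc.mapIso i) :
      (Spec (CommRingCat.of A)).presheaf.stalk q ≃+* Localization.AtPrime q.asIdeal)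
    (fun a => (congr($(i.hom.w).hom a)).symm)
  refine (ringKrullDim_eq_of_ringEquiv E').trans (ringKrullDim_eq_of_ringEquiv (Ideal.quotEquivOfEq ?_))
  rw [← Localization.AtPrime.map_eq_maximalIdeal, Ideal.map_map]
  refine congrArg (Ideal.map · _) (RingHom.ext fun r => ?_)
  rw [RingHom.comp_apply, Localization.localRingHom_to_map]
  rfl

/-- An element of a base change comes from a finitely generated stage. -/
theorem exists_stage_element {R : Type u} [CommRing R] (R₀ : Subalgebra ℤ R) (A₀ : Type u) [CommRing A₀]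
    [Algebra R₀ A₀] (z : R ⊗[R₀] A₀) :
    ∃ T : Finset R, ∀ (R₁ : Subalgebra ℤ R) (hle : R₀ ≤ R₁), (T : Set R) ⊆ R₁ →
      letI := (Subalgebra.inclusion hle).toRingHom.toAlgebra
      ∃ w : R₁ ⊗[R₀] A₀, ∀ φ : R₁ ⊗[R₀] A₀ →+* R ⊗[R₀] A₀,
        (∀ (r : R₁) (c : A₀), φ (r ⊗ₜ[R₀] c) = (r : R) ⊗ₜ[R₀] c) → φ w = z := by
  classical
  induction z using TensorProduct.induction_on with
  | zero => exact ⟨∅, fun R₁ hle _ => ⟨0, fun φ _ => map_zero φ⟩⟩
  | tmul r c =>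
    refine ⟨{r}, fun R₁ hle hT => ?_⟩
    letI := (Subalgebra.inclusion hle).toRingHom.toAlgebra
    exact ⟨(⟨r, hT (by simp)⟩ : R₁) ⊗ₜ[R₀] c, fun φ hφ => hφ _ _⟩
  | add x y hx hy =>
    obtain ⟨T₁, h₁⟩ := hx
    obtain ⟨T₂, h₂⟩ := hy
    refine ⟨T₁ ∪ T₂, fun R₁ hle hT => ?_⟩
    rw [Finset.coe_union, Set.union_subset_iff] at hT
    obtain ⟨w₁, hw₁⟩ := h₁ R₁ hle hT.1
    obtain ⟨w₂, hw₂⟩ := h₂ R₁ hle hT.2
    exact ⟨w₁ + w₂, fun φ hφ => by rw [map_add, hw₁ φ hφ, hw₂ φ hφ]⟩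

/-- A smooth algebra with two elements comes from a finitely generated subring. -/
theorem exists_model_pair {R A : Type u} [CommRing R] [CommRing A] [Algebra R A] [Algebra.Smooth R A] (a b : A) :
    ∃ (R₁ : Subalgebra ℤ R) (A₁ : Type u) (_ : CommRing A₁) (_ : Algebra R₁ A₁) (e : A ≃ₐ[R] R ⊗[R₁] A₁)
      (a₁ b₁ : A₁), R₁.FG ∧ Algebra.Smooth R₁ A₁ ∧ e a = (1 : R) ⊗ₜ[R₁] a₁ ∧ e b = (1 : R) ⊗ₜ[R₁] b₁ := by
  classical
  obtain ⟨R₀, A₀, _, _, hfg, hsm, ⟨e₀⟩⟩ := Algebra.Smooth.exists_subalgebra_fg ℤ R A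
  obtain ⟨Ta, hTa⟩ := exists_stage_element R₀ A₀ (e₀ a)
  obtain ⟨Tb, hTb⟩ := exists_stage_element R₀ A₀ (e₀ b)
  let R₁ : Subalgebra ℤ R := R₀ ⊔ Algebra.adjoin ℤ ((Ta ∪ Tb : Finset R) : Set R)
  have hle : R₀ ≤ R₁ := le_sup_left
  have hT : ((Ta ∪ Tb : Finset R) : Set R) ⊆ R₁ := fun x hx =>
    (le_sup_right : _ ≤ R₁) (Algebra.subset_adjoin hx)
  rw [Finset.coe_union, Set.union_subset_iff] at hT
  letI : Algebra R₀ R₁ := (Subalgebra.inclusion hle).toRingHom.toAlgebra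
  haveI : IsScalarTower R₀ R₁ R := IsScalarTower.of_algebraMap_eq fun _ => rfl
  let A₁ := R₁ ⊗[R₀] A₀
  let c : R ⊗[R₁] A₁ ≃ₐ[R] R ⊗[R₀] A₀ := Algebra.TensorProduct.cancelBaseChange R₀ R₁ R R A₀
  let φ : A₁ →+* R ⊗[R₀] A₀ :=
    (c : R ⊗[R₁] A₁ →+* R ⊗[R₀] A₀).comp (Algebra.TensorProduct.includeRight : A₁ →ₐ[R₁] R ⊗[R₁] A₁).toRingHom
  have hφ : ∀ (r : R₁) (x : A₀), φ (r ⊗ₜ[R₀] x) = (r : R) ⊗ₜ[R₀] x := by
    intro r x
    show c ((1 : R) ⊗ₜ[R₁] (r ⊗ₜ[R₀] x)) = _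
    refine (Algebra.TensorProduct.cancelBaseChange_tmul R₀ R₁ R R A₀ (1 : R) r x).trans ?_
    rw [Algebra.smul_def, mul_one]
    rfl
  obtain ⟨wa, hwa⟩ := hTa R₁ hle hT.1
  obtain ⟨wb, hwb⟩ := hTb R₁ hle hT.2
  refine ⟨R₁, A₁, inferInstance, inferInstance, e₀.trans c.symm, wa, wb,
    hfg.sup (Subalgebra.fg_adjoin_finset _), inferInstance, ?_, ?_⟩
  · rw [AlgEquiv.trans_apply, AlgEquiv.symm_apply_eq]
    exact (hwa φ hφ).symm
  · rw [AlgEquiv.trans_apply, AlgEquiv.symm_apply_eq]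
    exact (hwb φ hφ).symm

/-- Extension across a pair regular on all fibres. -/
theorem essSurj_pair {R A : Type u} [CommRing R] [CommRing A] [Algebra R A] [Algebra.Smooth R A] (a b : A)
    (h : ∀ q, InjFibre.SeqAt R [a, b] q) :
    (FEt.restrict (PrimeSpectrum.basicOpen a ⊔ PrimeSpectrum.basicOpen b :
      (Spec (CommRingCat.of A)).Opens).ι).EssSurj := by
  classical
  obtain ⟨R₁, A₁, _, _, e, a₁, b₁, hfg, hsm, hea, heb⟩ := exists_model_pair (R := R) a b
  haveI : IsCofiltered (LimModel.FgSub R)ᵒᵖ := isCofiltered_op_of_isFiltered _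
  let D := LimModel.fgDiagram R
  let c := LimModel.fgCone R
  let hc := LimModel.fgIsLimit R
  haveI : ∀ {i j : (LimModel.FgSub R)ᵒᵖ} (f : i ⟶ j), IsAffineHom (D.map f) := fun f =>
    inferInstanceAs (IsAffineHom ((LimModel.fgDiagram R).map f))
  haveI hDln : ∀ i : (LimModel.FgSub R)ᵒᵖ, IsLocallyNoetherian (D.obj i) := fun i => by
    haveI : IsNoetherianRing ↥(i.unop.1 : Subalgebra ℤ R) :=
      Algebra.FiniteType.isNoetherianRing ℤ _ (h := (Subalgebra.fg_iff_finiteType _).mp i.unop.2)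
    exact inferInstanceAs (IsLocallyNoetherian (Spec (CommRingCat.of i.unop.1)))
  let i₀ : (LimModel.FgSub R)ᵒᵖ := op ⟨R₁, hfg⟩
  haveI : IsNoetherianRing R₁ := Algebra.FiniteType.isNoetherianRing ℤ _ (h := (Subalgebra.fg_iff_finiteType _).mp hfg)
  haveI : IsNoetherianRing A₁ := Algebra.FiniteType.isNoetherianRing R₁ A₁
  let W₁ : (Spec (CommRingCat.of A₁)).Opens :=
    ⟨{q | InjFibre.SeqAt R₁ [a₁, b₁] q}, InjFibre.isOpen_seqAt _⟩
  let ψ : A₁ →+* A := (e.symm : R ⊗[R₁] A₁ →+* A).comp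
    (Algebra.TensorProduct.includeRight : A₁ →ₐ[R₁] R ⊗[R₁] A₁).toRingHom
  have hψa : ψ a₁ = a := by
    show e.symm ((1 : R) ⊗ₜ[R₁] a₁) = a
    rw [← hea, e.symm_apply_apply]
  have hψb : ψ b₁ = b := by
    show e.symm ((1 : R) ⊗ₜ[R₁] b₁) = b
    rw [← heb, e.symm_apply_apply]
  let g := Spec.map (CommRingCat.ofHom ψ)
  let F := Spec.map (CommRingCat.ofHom (algebraMap R A))
  let f₀ := Spec.map (CommRingCat.ofHom (algebraMap R₁ A₁))
  have hsq : IsPullback g F f₀ (Spec.map (CommRingCat.ofHom (algebraMap R₁ R))) := by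
    haveI : IsIso (CommRingCat.ofHom (e.symm : R ⊗[R₁] A₁ →+* A)) :=
      (e.symm.toRingEquiv.toCommRingCatIso).isIso_hom
    refine (isPullback_SpecMap_of_isPushout _ _ _ _
      (CommRingCat.isPushout_tensorProduct R₁ R A₁)).flip.of_iso
      (asIso (Spec.map (CommRingCat.ofHom (e.symm : R ⊗[R₁] A₁ →+* A)))).symm (Iso.refl _) (Iso.refl _) (Iso.refl _)
      ?_ ?_ ?_ ?_
    · simp only [Iso.refl_hom, Category.comp_id, Iso.symm_hom, asIso_inv, IsIso.eq_inv_comp, g]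
      rw [← Spec.map_comp]
      rfl
    · simp only [Iso.refl_hom, Category.comp_id, Iso.symm_hom, asIso_inv, IsIso.eq_inv_comp, F]
      rw [← Spec.map_comp]
      congr 2
      ext r
      exact e.symm.commutes r
    · simp [f₀]
    · simp
  have hrange : ∀ q : PrimeSpectrum A, InjFibre.SeqAt R₁ [a₁, b₁] (PrimeSpectrum.comap ψ q) := by
    intro q
    let p := q.asIdeal.comap (algebraMap R A)
    let p₁ := p.comap (algebraMap R₁ R)
    refine seqAt_of_two_fibre p₁ ?_ _ ?_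
    · refine two_fibre_descent p p₁ rfl ?_
      have h0 := two_map_equiv (T := p.Fiber (R ⊗[R₁] A₁))
        (Algebra.TensorProduct.congr (AlgEquiv.refl : p.ResidueField ≃ₐ[R] p.ResidueField) e).toRingEquiv
        (two_fibre_of_seqAt p h)
      rw [← hea, ← heb]
      exact h0
    · ext r
      show ψ (algebraMap R₁ A₁ r) ∈ q.asIdeal ↔ algebraMap R A (algebraMap R₁ R r) ∈ q.asIdeal
      have : ψ (algebraMap R₁ A₁ r) = algebraMap R A (algebraMap R₁ R r) := by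
        show e.symm ((1 : R) ⊗ₜ[R₁] algebraMap R₁ A₁ r) = _
        rw [Algebra.algebraMap_eq_smul_one, ← TensorProduct.smul_tmul, ← Algebra.algebraMap_eq_smul_one]
        exact e.symm.commutes (algebraMap R₁ R r)
      rw [this]
  let l : Spec (CommRingCat.of A) ⟶ (W₁ : Scheme.{u}) := IsOpenImmersion.lift W₁.ι g (by
    rw [Scheme.Opens.range_ι]
    rintro _ ⟨q, rfl⟩
    exact hrange q)
  have hl : l ≫ W₁.ι = g := IsOpenImmersion.lift_fac _ _ _
  let f₁ : (W₁ : Scheme.{u}) ⟶ D.obj i₀ := W₁.ι ≫ f₀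
  haveI : Smooth f₀ := (HasRingHomProperty.Spec_iff (P := @Smooth)).mpr
    (RingHom.smooth_algebraMap.mpr hsm)
  haveI : Smooth f₁ := inferInstanceAs (Smooth (W₁.ι ≫ f₀))
  let Fc : Spec (CommRingCat.of A) ⟶ c.pt := F
  have hY : IsPullback l Fc f₁ (c.π.app i₀) := by
    have h1 : IsPullback l (𝟙 _) W₁.ι g := IsOpenImmersion.isPullback l (𝟙 _) W₁.ι g
      (by rw [hl, Category.id_comp]) (by
        rw [Scheme.Opens.opensRange_ι]
        ext q
        exact ⟨fun _ => ⟨q, rfl⟩, fun _ => hrange q⟩)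
    have h2 := h1.paste_vert hsq
    rw [Category.id_comp] at h2
    exact h2
  let T := LimDesc.tower D f₁
  let cT := LimDesc.towerCone D f₁ c hY
  let hcT : IsLimit cT := LimDesc.isLimitTowerCone D f₁ c hY hc
  haveI : TopologicalSpace.NoetherianSpace (Spec (CommRingCat.of A₁)) := inferInstanceAs (TopologicalSpace.NoetherianSpace (PrimeSpectrum A₁))
  haveI : CompactSpace (W₁ : Scheme.{u}) :=
    isCompact_iff_compactSpace.mp (TopologicalSpace.NoetherianSpace.isCompact _)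
  haveI : ∀ j, IsLocallyNoetherian (T.obj j) := fun j => by
    haveI : LocallyOfFiniteType (LimDesc.toStage D f₁ j) :=
      MorphismProperty.of_isPullback (P := @LocallyOfFiniteType) (LimDesc.isPullback_stage D f₁ j) inferInstance
    exact LocallyOfFiniteType.isLocallyNoetherian (LimDesc.toStage D f₁ j)
  haveI : ∀ j, CompactSpace (T.obj j) := fun j => LimDesc.compactSpace_stage D f₁ j
  haveI : ∀ j, IsNoetherian (T.obj j) := fun j => ⟨⟩
  haveI : ∀ {j k : Over i₀} (f : j ⟶ k), IsAffineHom (T.map f) := fun f =>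
    LimDesc.isAffineHom_tower_map D f₁ f
  let o : Over i₀ := Over.mk (𝟙 i₀)
  let U₁ : (W₁ : Scheme.{u}).Opens :=
    W₁.ι ⁻¹ᵁ (PrimeSpectrum.basicOpen a₁ ⊔ PrimeSpectrum.basicOpen b₁ : (Spec (CommRingCat.of A₁)).Opens)
  let U₀ : (T.obj o).Opens := LimDesc.toBase D f₁ o ⁻¹ᵁ U₁
  haveI : ∀ j, CompactSpace ((opensDiagram T o U₀).obj j) := fun j =>
    isCompact_iff_compactSpace.mp (TopologicalSpace.NoetherianSpace.isCompact _)
  haveI : ∀ j, QuasiSeparatedSpace ((opensDiagram T o U₀).obj j) := fun j =>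
    inferInstanceAs (QuasiSeparatedSpace (T.map j.hom ⁻¹ᵁ U₀).toScheme)
  let cU := opensCone T cT o U₀
  let U : (Spec (CommRingCat.of A)).Opens := PrimeSpectrum.basicOpen a ⊔ PrimeSpectrum.basicOpen b
  have hU : U = cT.π.app o ⁻¹ᵁ U₀ := by
    show U = LimDesc.proj D f₁ c hY o ⁻¹ᵁ LimDesc.toBase D f₁ o ⁻¹ᵁ U₁
    rw [← Scheme.Hom.comp_preimage, LimDesc.proj_toBase, ← Scheme.Hom.comp_preimage, hl]
    ext q
    show (a ∉ q.asIdeal ∨ b ∉ q.asIdeal) ↔ (a₁ ∉ (PrimeSpectrum.comap ψ q).asIdeal ∨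
      b₁ ∉ (PrimeSpectrum.comap ψ q).asIdeal)
    rw [PrimeSpectrum.comap_asIdeal, Ideal.mem_comap, Ideal.mem_comap, hψa, hψb]
  suffices H : (FEt.restrict (cT.π.app o ⁻¹ᵁ U₀).ι).EssSurj by
    have : ∀ (U' : (Spec (CommRingCat.of A)).Opens), U' = cT.π.app o ⁻¹ᵁ U₀ →
        (FEt.restrict U'.ι).EssSurj := by
      rintro _ rfl
      exact H
    exact this U hU
  refine ⟨fun E => ?_⟩
  obtain ⟨j, Vj, ⟨η⟩⟩ := FEtLim.exists_model (opensDiagram T o U₀) cU (isLimitOpensCone T cT hcT o U₀) E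
  let Uj : (T.obj j.left).Opens := T.map j.hom ⁻¹ᵁ U₀
  haveI : Smooth (LimDesc.toStage D f₁ j.left) :=
    MorphismProperty.of_isPullback (P := @Smooth) (LimDesc.isPullback_stage D f₁ j.left) inferInstance
  haveI hes : (FEt.restrict Uj.ι).EssSurj := by
    refine essSurj_of_fibre (LimDesc.toStage D f₁ j.left) Uj fun x hx => ?_
    refine le_trans ?_ (FibreDimBC.fibreStalkDim_le (LimDesc.isPullback_stage D f₁ j.left) x)
    have hy : LimDesc.toBase D f₁ j.left x ∉ U₁ := fun hmem => hx (by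
      show LimDesc.toBase D f₁ o (LimDesc.trans D f₁ j.hom x) ∈ U₁
      rw [← Scheme.Hom.comp_apply, LimDesc.trans_toBase]
      exact hmem)
    generalize LimDesc.toBase D f₁ j.left x = y at hy
    obtain ⟨E⟩ := CInt.nonempty_fiberStalk_openImm_comp W₁.ι f₀ y
    refine le_trans ?_ (ringKrullDim_eq_of_ringEquiv E).ge
    refine (two_le_dim_of_seqAt (R := R₁) (a := a₁) (b := b₁) (W₁.ι y) ?_ ?_ y.2).trans_eq
      (ringKrullDim_fiber_Spec (R := R₁) (W₁.ι y)).symm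
    · by_contra hh
      exact hy (Or.inl hh)
    · by_contra hh
      exact hy (Or.inr hh)
  let Ej := (FEt.restrict Uj.ι).objPreimage Vj
  refine ⟨(FEt.restrict (cT.π.app j.left)).obj Ej, ⟨?_⟩⟩
  have w : cU.π.app j ≫ Uj.ι = (cT.π.app o ⁻¹ᵁ U₀).ι ≫ cT.π.app j.left := Scheme.Hom.resLE_comp_ι _ _
  exact (LefEssSurj.restrictComp _ _ _ rfl).symm.app Ej ≪≫
    (LefEssSurj.restrictComp (cU.π.app j) Uj.ι _ w).app Ej ≪≫
    (FEt.restrict (cU.π.app j)).mapIso ((FEt.restrict Uj.ι).objObjPreimageIso Vj) ≪≫ η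

end Groth.Agent.PurFib
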