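import Groth.Agent.PurFib.Glue
import Groth.Agent.PurFib.Local
import Groth.Agent.Purity.Chart

/-!
# Relative purity: finite étale covers and fibrewise codimension two
-/

set_option autoImplicit false
set_option maxHeartbeats 1000000
set_option backward.isDefEq.respectTransparency false
set_option linter.style.haveILetI false

universe u

open AlgebraicGeometry CategoryTheory TopologicalSpace Limits Opposite IsLocalRing
open Groth.Agent.Purity (TwoWith)

noncomputable section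

namespace Groth.Agent.PurFib

variable {X S : Scheme.{u}}

/-- Near every point there is an affine chart with a pair regular on all fibres, cutting into `U`. -/
theorem exists_seq_chart (f : X ⟶ S) [Smooth f] (U : X.Opens)
    (hU : ∀ x : X, x ∉ U → (2 : WithBot ℕ∞) ≤ ringKrullDim ((f.fiber (f x)).presheaf.stalk (f.asFiber x)))
    (x : X) :
    ∃ (O : S.Opens) (V : X.Opens) (e : V ≤ f ⁻¹ᵁ O) (a b : Γ(X, V)), IsAffineOpen O ∧ IsAffineOpen V ∧ x ∈ V ∧
      X.basicOpen a ≤ U ∧ X.basicOpen b ≤ U ∧ (f.appLE O V e).hom.Smooth ∧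
      (letI := (f.appLE O V e).hom.toAlgebra; ∀ q, InjFibre.SeqAt Γ(S, O) [a, b] q) := by
  obtain ⟨_, ⟨O, hO, rfl⟩, hxO, -⟩ := S.isBasis_affineOpens.exists_subset_of_mem_open
    (Set.mem_univ (f x)) isOpen_univ
  obtain ⟨_, ⟨V₀, hV₀, rfl⟩, hxV₀, he⟩ := X.isBasis_affineOpens.exists_subset_of_mem_open
    (show x ∈ f ⁻¹ᵁ O from hxO) (f ⁻¹ᵁ O).2
  have e₀ : V₀ ≤ f ⁻¹ᵁ O := he
  letI := (f.appLE O V₀ e₀).hom.toAlgebra
  have hsm : (f.appLE O V₀ e₀).hom.Smooth := HasRingHomProperty.appLE @Smooth f inferInstance ⟨O, hO⟩ ⟨V₀, hV₀⟩ e₀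
  haveI : Algebra.Smooth Γ(S, O) Γ(X, V₀) := hsm
  let q₀ := hV₀.primeIdealOf ⟨x, hxV₀⟩
  let p := q₀.asIdeal.comap (algebraMap Γ(S, O) Γ(X, V₀))
  obtain ⟨a, b, ha, hb, hseq⟩ := exists_pair_fibre p (Purity.outerIdeal U hV₀) fun q hq hqp hle => by
    let z := hV₀.fromSpec ⟨q, hq⟩
    have hzV : z ∈ V₀ := hV₀.range_fromSpec.le ⟨_, rfl⟩
    have hzU : z ∉ U := Purity.mem_of_outerIdeal_le hV₀ hle
    have hpe : hV₀.primeIdealOf ⟨z, hzV⟩ = ⟨q, hq⟩ :=
      hV₀.fromSpec.isOpenEmbedding.injective (hV₀.fromSpec_primeIdealOf ⟨z, hzV⟩)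
    have key : ∀ (Q : PrimeSpectrum Γ(X, V₀)), Q = ⟨q, hq⟩ →
        ringKrullDim (Localization.AtPrime Q.asIdeal ⧸
          (Q.asIdeal.comap (algebraMap Γ(S, O) Γ(X, V₀))).map
            (algebraMap Γ(S, O) (Localization.AtPrime Q.asIdeal))) =
        ringKrullDim (Localization.AtPrime q ⧸ p.map (algebraMap Γ(S, O) (Localization.AtPrime q))) := by
      rintro _ rfl
      rw [hqp]
    rw [← key _ hpe, ← ringKrullDim_fiber_chart f hO hV₀ e₀ hzV]
    exact hU z hzU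
  obtain ⟨_, ⟨_, ⟨c, rfl⟩, rfl⟩, hcq, hcW⟩ := PrimeSpectrum.isBasis_basic_opens.exists_subset_of_mem_open
    (show q₀ ∈ {q | InjFibre.SeqAt Γ(S, O) [a, b] q} from hseq q₀ rfl) (InjFibre.isOpen_seqAt _)
  let V := X.basicOpen c
  have hVle : V ≤ V₀ := X.basicOpen_le c
  have hV : IsAffineOpen V := hV₀.basicOpen c
  have hxV : x ∈ V := by
    have h1 : q₀ ∈ hV₀.fromSpec ⁻¹ᵁ X.basicOpen c := by
      rw [hV₀.fromSpec_preimage_basicOpen]
      exact hcq
    have h2 : hV₀.fromSpec q₀ ∈ X.basicOpen c := h1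
    rwa [hV₀.fromSpec_primeIdealOf ⟨x, hxV₀⟩] at h2
  let res := X.presheaf.map (homOfLE hVle).op
  refine ⟨O, V, hVle.trans e₀, res a, res b, hO, hV, hxV, ?_, ?_,
    HasRingHomProperty.appLE @Smooth f inferInstance ⟨O, hO⟩ ⟨V, hV⟩ _, ?_⟩
  · exact (X.basicOpen_res a (homOfLE hVle).op).trans_le (inf_le_right.trans (Purity.basicOpen_le_of_mem_outerIdeal hV₀ ha))
  · exact (X.basicOpen_res b (homOfLE hVle).op).trans_le (inf_le_right.trans (Purity.basicOpen_le_of_mem_outerIdeal hV₀ hb))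
  letI := (f.appLE O V (hVle.trans e₀)).hom.toAlgebra
  haveI : IsScalarTower Γ(S, O) Γ(X, V₀) Γ(X, V) := IsScalarTower.of_algebraMap_eq fun r =>
    (ConcreteCategory.congr_hom (f.appLE_map e₀ (homOfLE hVle).op) r).symm
  haveI := hV₀.isLocalization_basicOpen c
  intro q
  let q' : PrimeSpectrum Γ(X, V₀) := PrimeSpectrum.comap (algebraMap Γ(X, V₀) Γ(X, V)) q
  have hq' : InjFibre.SeqAt Γ(S, O) [a, b] q' := hcW (fun hc => q.2.ne_top (Ideal.eq_top_of_isUnit_mem _ hc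
    (IsLocalization.Away.algebraMap_isUnit c)))
  let L := Localization.AtPrime q.asIdeal
  haveI : IsLocalization.AtPrime L q'.asIdeal :=
    IsLocalization.isLocalization_isLocalization_atPrime_isLocalization (Submonoid.powers c) L q.asIdeal
  have h2 := (InjFibre.seqAt_iff (R := Γ(S, O)) [a, b] q' L).1 hq'
  refine (InjFibre.seqAt_iff (R := Γ(S, O)) _ q L).2 ?_
  have hmap : [res a, res b].map (algebraMap Γ(X, V) L) = [a, b].map (algebraMap Γ(X, V₀) L) := by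
    simp only [List.map_cons, List.map_nil, IsScalarTower.algebraMap_apply Γ(X, V₀) Γ(X, V) L]
    rfl
  refine ⟨?_, fun i hi => ?_⟩
  · rw [hmap]; exact h2.1
  · rw [hmap]; exact h2.2 i (by simpa using hi)

/-- Charts for Hartogs. -/
theorem exists_goodFor (f : X ⟶ S) [Smooth f] (U : X.Opens)
    (hU : ∀ x : X, x ∉ U → (2 : WithBot ℕ∞) ≤ ringKrullDim ((f.fiber (f x)).presheaf.stalk (f.asFiber x)))
    (x : X) : ∃ V, x ∈ V ∧ GoodFor U V := by
  obtain ⟨O, V, e, a, b, -, hV, hxV, ha, hb, hsm, hseq⟩ := exists_seq_chart f U hU x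
  letI := (f.appLE O V e).hom.toAlgebra
  exact ⟨V, hxV, hV, a, b, ha, hb, two_of_seqAt (R := Γ(S, O)) hseq⟩

/-- Extensions exist near every point. -/
theorem exists_hasExt (f : X ⟶ S) [Smooth f] (U : X.Opens)
    (hU : ∀ x : X, x ∉ U → (2 : WithBot ℕ∞) ≤ ringKrullDim ((f.fiber (f x)).presheaf.stalk (f.asFiber x)))
    {E : Scheme.{u}} (h : E ⟶ U.toScheme) (hh : FEt.prop h) (x : X) : ∃ V, x ∈ V ∧ HasExt h V := by
  obtain ⟨O, V, e, a, b, -, hV, hxV, ha, hb, hsm, hseq⟩ := exists_seq_chart f U hU x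
  refine ⟨V, hxV, hV, ?_⟩
  letI := (f.appLE O V e).hom.toAlgebra
  haveI : Algebra.Smooth Γ(S, O) Γ(X, V) := hsm
  let fs := hV.fromSpec
  let U' : (Spec Γ(X, V)).Opens := PrimeSpectrum.basicOpen a ⊔ PrimeSpectrum.basicOpen b
  let M : (Spec Γ(X, V)).Opens := fs ⁻¹ᵁ U
  have hUM : U' ≤ M := by
    refine sup_le ?_ ?_
    · rw [← hV.fromSpec_preimage_basicOpen a]
      exact Scheme.Hom.preimage_mono fs ha
    · rw [← hV.fromSpec_preimage_basicOpen b]
      exact Scheme.Hom.preimage_mono fs hb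
  haveI : (FEt.restrict U'.ι).EssSurj := essSurj_pair (R := Γ(S, O)) a b hseq
  let m : M.toScheme ⟶ U.toScheme := fs.resLE U M le_rfl
  have hm : m ≫ U.ι = M.ι ≫ fs := Scheme.Hom.resLE_comp_ι _ _
  let k := (Spec Γ(X, V)).homOfLE hUM
  let E₀ : FEt.Cat U.toScheme := MorphismProperty.Over.mk ⊤ h hh
  let EM := (FEt.restrict m).obj E₀
  let Eb := (FEt.restrict U'.ι).objPreimage ((FEt.restrict k).obj EM)
  -- the extension agrees with the cover on the preimage of `U`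
  let e₀ := Scheme.ΓSpecIso Γ(X, V)
  have htop : GoodFor U' (⊤ : (Spec Γ(X, V)).Opens) := by
    refine ⟨isAffineOpen_top _, e₀.inv a, e₀.inv b, ?_, ?_, ?_⟩
    · rw [basicOpen_eq_of_affine a]; exact le_sup_left
    · rw [basicOpen_eq_of_affine b]; exact le_sup_right
    · exact two_map_equiv e₀.symm.commRingCatIsoToRingEquiv (two_of_seqAt (R := Γ(S, O)) hseq)
  have hgoodM : ∀ y : M.toScheme, ∃ W, y ∈ W ∧ GoodFor (M.ι ⁻¹ᵁ U') W := fun y => by
    obtain ⟨c, hc, hyc⟩ := (isAffineOpen_top (Spec Γ(X, V))).exists_basicOpen_le ⟨y.1, y.2⟩ (Set.mem_univ _)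
    exact ⟨M.ι ⁻¹ᵁ (Spec Γ(X, V)).basicOpen c, hyc, (htop.basicOpen c).preimage_openImmersion M.ι (hc.trans (Scheme.Opens.opensRange_ι M).ge)⟩
  obtain ⟨hFull, hFaith⟩ := restrict_full_faithful_of_good (M.ι ⁻¹ᵁ U') hgoodM
  haveI := hFull
  haveI := hFaith
  let K := M.ι ⁻¹ᵁ U'
  let s : K.toScheme ⟶ U'.toScheme := M.ι ∣_ U'
  have hs : s ≫ U'.ι = K.ι ≫ M.ι := morphismRestrict_ι _ _
  have hsk : s ≫ k = K.ι := by
    rw [← cancel_mono M.ι, Category.assoc, Scheme.homOfLE_ι, hs]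
  let ηK : (FEt.restrict K.ι).obj ((FEt.restrict M.ι).obj Eb) ≅ (FEt.restrict K.ι).obj EM :=
    (LefEssSurj.restrictComp K.ι M.ι _ rfl).symm.app Eb ≪≫
      (LefEssSurj.restrictComp s U'.ι _ hs).app Eb ≪≫
      (FEt.restrict s).mapIso ((FEt.restrict U'.ι).objObjPreimageIso ((FEt.restrict k).obj EM)) ≪≫
      (LefEssSurj.restrictComp s k _ hsk).symm.app EM
  let η : (FEt.restrict M.ι).obj Eb ≅ EM := (FEt.restrict K.ι).preimageIso ηK
  haveI : IsAffine V.toScheme := hV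
  refine ⟨Eb.left, Eb.hom ≫ hV.isoSpec.inv, ?_⟩
  have hρ : FEt.prop (Eb.hom ≫ hV.isoSpec.inv) := by
    rw [MorphismProperty.cancel_right_of_respectsIso FEt.prop.{u}]
    exact Eb.prop
  have hρV : (Eb.hom ≫ hV.isoSpec.inv) ≫ V.ι = Eb.hom ≫ fs := by
    rw [Category.assoc, hV.isoSpec_inv_ι]
  -- the pullback square
  have sq1 : IsPullback (pullback.fst Eb.hom M.ι) (pullback.snd Eb.hom M.ι ≫ m) (Eb.hom ≫ fs) U.ι := by
    have hb' : IsPullback M.ι m fs U.ι := (IsOpenImmersion.isPullback m M.ι U.ι fs hm.symm (by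
      rw [Scheme.Opens.opensRange_ι, Scheme.Opens.opensRange_ι])).flip
    exact (IsPullback.of_hasPullback Eb.hom M.ι).paste_vert hb'
  let g := h ≫ U.ι
  let l : (over' h V).toScheme ⟶ M.toScheme := IsOpenImmersion.lift M.ι ((g ∣_ V) ≫ hV.isoSpec.hom) (by
    rw [Scheme.Opens.range_ι]
    rintro _ ⟨y, rfl⟩
    show fs (((g ∣_ V) ≫ hV.isoSpec.hom) y) ∈ U
    rw [← Scheme.Hom.comp_apply, Category.assoc, hV.isoSpec_hom_fromSpec, morphismRestrict_ι,
      Scheme.Hom.comp_apply, Scheme.Hom.comp_apply]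
    exact (h _).2)
  have hl : l ≫ M.ι ≫ fs = (over' h V).ι ≫ g := by
    rw [IsOpenImmersion.lift_fac_assoc, Category.assoc, hV.isoSpec_hom_fromSpec, morphismRestrict_ι]
  have hlm : l ≫ m = (over' h V).ι ≫ h := by
    rw [← cancel_mono U.ι, Category.assoc, hm, hl, Category.assoc]
  have sq2 : IsPullback (over' h V).ι l h m := by
    haveI : IsOpenImmersion m := by
      haveI : IsOpenImmersion (m ≫ U.ι) := by rw [hm]; infer_instance
      exact IsOpenImmersion.of_comp m U.ι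
    refine (IsOpenImmersion.isPullback l (over' h V).ι m h hlm.symm ?_).flip
    rw [Scheme.Opens.opensRange_ι]
    ext y
    constructor
    · rintro ⟨t, ht⟩
      show (h ≫ U.ι) y ∈ V
      rw [Scheme.Hom.comp_apply, ← ht, ← Scheme.Hom.comp_apply, hm, Scheme.Hom.comp_apply]
      exact hV.range_fromSpec.le ⟨_, rfl⟩
    · intro hy
      exact ⟨l ⟨y, hy⟩, by rw [← Scheme.Hom.comp_apply, hlm]; rfl⟩
  let ι₁ : (over' h V).toScheme ≅ pullback Eb.hom M.ι :=
    sq2.isoPullback ≪≫ ((MorphismProperty.Over.forget FEt.prop.{u} ⊤ M.toScheme ⋙ Over.forget _).mapIso η).symm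
  have hι₁ : ι₁.hom ≫ pullback.snd Eb.hom M.ι = l := by
    have hw : η.inv.left ≫ pullback.snd Eb.hom M.ι = pullback.snd h m := MorphismProperty.Over.w η.inv
    show (sq2.isoPullback.hom ≫ η.inv.left) ≫ pullback.snd Eb.hom M.ι = l
    rw [Category.assoc, hw, sq2.isoPullback_hom_snd]
  refine ⟨ι₁.hom ≫ pullback.fst Eb.hom M.ι, hρ, ?_⟩
  rw [hρV]
  refine sq1.of_iso ι₁.symm (Iso.refl _) (Iso.refl _) (Iso.refl _) ?_ ?_ ?_ ?_
  · simp
  · simp only [Iso.refl_hom, Category.comp_id, Iso.symm_hom]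
    rw [Iso.eq_inv_comp, reassoc_of% hι₁, hlm]
  · simp
  · simp

/-- Relative purity in fibre codimension two. -/
theorem restrict_isEquivalence_of_fibre (f : X ⟶ S) [Smooth f] (U : X.Opens)
    (hU : ∀ x : X, x ∉ U → (2 : WithBot ℕ∞) ≤ ringKrullDim ((f.fiber (f x)).presheaf.stalk (f.asFiber x))) :
    (FEt.restrict U.ι).IsEquivalence := by
  have hgood := exists_goodFor f U hU
  obtain ⟨hFull, hFaith⟩ := restrict_full_faithful_of_good U hgood
  haveI := hFull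
  haveI := hFaith
  haveI : (FEt.restrict U.ι).EssSurj := ⟨fun E₀ => by
    obtain ⟨G, ρ, j, hρ, sq⟩ := exists_extension (h := E₀.hom) hgood (exists_hasExt f U hU E₀.hom E₀.prop)
    exact ⟨MorphismProperty.Over.mk ⊤ ρ hρ, ⟨(MorphismProperty.Over.isoMk (A := E₀)
      (B := (FEt.restrict U.ι).obj (MorphismProperty.Over.mk ⊤ ρ hρ)) sq.isoPullback sq.isoPullback_hom_snd).symm⟩⟩⟩
  exact { }

end Groth.Agent.PurFib
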